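import Cfsg.Agent.N2.Cl.FrO.Md
import Cfsg.Agent.N2.Cl.FixO.Main
import Cfsg.Agent.N2.C1.Elt
import Cfsg.Agent.SB.Fr.Main

/-!
# N2 (S3519), orthogonal groups: frames, [FrO] (helper76)

* `two` : two blocks; `isom` : a minimal frame with at least three blocks has isometric blocks;
* `bridge` : the stabiliser of the frame is the monomial group;
* `hyp_two`, `hyp_three` : hyperbolic planes over the fields with two and three elements;
* `N2C.frO : OnO pFr`.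
-/

set_option autoImplicit false
set_option linter.unusedSectionVars false

namespace Cfsg.Agent.N2C.FrO

open Cfsg.Agent.DS.Cl Cfsg.Agent.DS.Cl.Fwd Module QuadraticMap Cfsg.Agent.N2C.Cyc
open Polynomial (aeval)
open Cfsg.Agent.TH.Cl (KO)
open Cfsg.Agent.SB.Cl (IsO rk)
open Cfsg.Agent.SB.Fr (MinFr Cj)
open Cfsg.Agent.LieClassical.OrthCore
open Cfsg.Agent.LieClassical.OrthFinite (good_of_finite exists_sing_mem)
open Cfsg.Agent.H955 (res perp nondeg_res_iff)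
open Cfsg.Agent.H182.Sign (Sg)
open Cfsg.Agent.N2.C1 (SI rg)
open Cfsg.Agent.N2C.FixO (piE piE_eq piE_surj St Ex im im_eq nd_rg perp_rg rg_ne)

variable {K V X : Type} [Field K] [Fintype K] [AddCommGroup V] [Module K V] [Finite V] [AddCommGroup X] [Module K X]
  [Finite X] {h : HF K V} {F : FR h.EB} {Q : QuadraticForm K V} {R : QuadraticForm K X} {H : Subgroup (RingAut h.EB)}
  {p : ℕ} {e f : h.EB} {D : Finset h.EB} {φ : X →ₗ[K] V}

theorem polar_emb (hq : ∀ x, Q (φ x) = R x) (x y : X) : polar Q (φ x) (φ y) = polar R x y := by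
  simp only [polar, ← map_add, hq]

theorem inj_emb (hR : Nondeg R) (hq : ∀ x, Q (φ x) = R x) : Function.Injective φ :=
  (injective_iff_map_eq_zero φ).2 fun x k => hR x fun y => by rw [← polar_emb hq, k, polar_zero_left]

theorem exists_emb (hR : Nondeg R) (hq : ∀ x, Q (φ x) = R x) : ∃ g : Emb R Q, g.φ = φ := by
  have : Module.Finite K X := Module.Finite.of_finite
  let ψ := (LinearMap.BilinForm.toDual _ (H955.nondegenerate_of_nondeg hR)).symm.toLinearMap ∘ₗ φ.dualMap ∘ₗ polarBilin Q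
  have h1 : ∀ x v, polar Q (φ x) v = polar R x (ψ v) := fun x v => by
    rw [polar_comm, polar_comm R]
    exact (LinearMap.BilinForm.apply_toDual_symm_apply (hB := H955.nondegenerate_of_nondeg hR)
      (φ.dualMap (polarBilin Q v)) x).symm
  exact ⟨⟨φ, ψ, fun x => sub_eq_zero.1 (hR _ fun y => by
    rw [polar_sub_left, polar_comm, ← h1, polar_emb hq, polar_comm, sub_self]), hq, h1⟩, rfl⟩

/-! ### two blocks -/

theorem good_ex (hQ : Nondeg Q) (h7 : 7 ≤ finrank K V) {W : Submodule K V} {B : Subgroup (E Q)} (h0 : W ≠ ⊥)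
    (hB : ∀ g, g ∈ B ↔ St Q W g) (hx : Ex Q W) : FP3.Good B := by
  obtain ⟨u, hu, b⟩ := four hx.1
  obtain ⟨ψ, hψ⟩ := (sg_R4 K).exists_equiv hx.2.2
  obtain ⟨g, hg⟩ := exists_emb (Q := Q) (φ := (perp Q W).subtype ∘ₗ ψ.toLinearMap) (sg_R4 K).nondeg hψ
  have h1 : ∀ w ∈ W, g.up u w = w := fun w hw => by
    rw [g.up_apply, (sg_R4 K).nondeg (g.ψ w) fun y => by rw [polar_comm, ← g.b, hg, polar_comm]; exact (ψ y).2 w hw,
      map_zero, sub_zero, map_zero, add_zero]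
  have h2 := b.map (inj_emb (sg_R4 K).nondeg g.q) g.q (g.up_φ u)
  rw [hg, LinearMap.range_comp, LinearEquiv.range, Submodule.map_top, Submodule.range_subtype] at h2
  exact FixO.good_blk hQ hx.2.1.nondeg h0 (hx.2.1.dim.trans hx.2.2.dim.symm).le hB
    (E2_le_E (good_of_finite hQ (by omega)) (g.up_E2 hu.e)) h2 (fun w hw => (h1 w hw).symm ▸ hw)
    (fun w hw => by rw [h1 w hw, h1 w hw]) (Or.inr h1)

theorem two (k : KO h F Q) (c : Ctx F H p) (h0 : e ≠ 0) (h1 : e ≠ 1) (hi : e * e = e) (hs : star e = e)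
    (hI : ∀ γ ∈ H, γ e = e ∨ γ e = 1 - e) : Gd F H := by
  classical
  by_cases hx : ¬ Ex Q (rg h e)
  · exact FixO.two k c h0 h1 hi hs hI hx
  have he : SI e := ⟨hi, hs⟩
  have h5 : ∀ γ : RingAut h.EB, (γ e = e ∨ γ e = 1 - e) → ∀ x ∈ (({e, 1 - e} : Finset h.EB) : Set h.EB),
      γ x ∈ (({e, 1 - e} : Finset h.EB) : Set h.EB) := fun γ hγ x hx => by
    simp only [Finset.coe_insert, Finset.coe_singleton, Set.mem_insert_iff, Set.mem_singleton_iff] at hx ⊢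
    rcases hx with rfl | rfl
    · exact hγ
    · rw [map_sub, map_one]
      exact hγ.elim (fun h6 => Or.inr (by rw [h6])) fun h6 => Or.inl (by rw [h6, sub_sub_cancel])
  refine (N2.good_comap (piE k) (piE_surj k) _).1 (good_ex (nondeg_of_O k.o) k.dim (rg_ne h0) (fun g => ?_) (not_not.1 hx))
  rw [St, perp_rg k he, ← piE_eq k he he, ← piE_eq k he he.compl]
  exact ⟨hI _, fun h6 => c.mem_of_inv (fun δ hδ => h5 δ (hI δ hδ)) (FrSp.not_inv c (FrSp.fr_pair h0 h1 hi hs))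
    (piE k g).2 (h5 _ h6)⟩

theorem isom (k : KO h F Q) (c : Ctx F H p) (hx : ¬ FixD H) (hD : MinFr H D) (h3 : 2 < D.card) : SB.Cl.Isom F D := by
  have : Nontrivial V := Module.nontrivial_of_finrank_pos (R := K) (by have := k.dim; omega)
  obtain ⟨e, he, f, hf, g, hg, hef, heg, hfg⟩ := Finset.two_lt_card.1 h3
  have h1 := fun γ hγ => SB.Fr.rk_map (h := h) (γ := γ) (c.le_SAut hγ)
  have h2 := (hD.part (rk h) fun γ hγ x _ y _ hxy => by rw [h1 γ hγ, h1 γ hγ, hxy]).resolve_right fun h2 =>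
    hx ⟨e, hD.fr.ne e he, hD.fr.ne_one he, hD.fr.idem e he, hD.fr.symm e he, fun γ hγ =>
      h2 (hD.inv γ hγ e he) he (h1 γ hγ e)⟩
  have h5 : ∀ x y, {z | Cj F x z} = {z | Cj F y z} ↔ Cj F x y := fun x y =>
    ⟨fun h5 => Cj.symm (show x ∈ {z | Cj F y z} from h5 ▸ Cj.refl x),
      fun h5 => Set.ext fun z => ⟨h5.symm.trans, h5.trans⟩⟩
  rcases hD.part (fun x => {z | Cj F x z}) (fun δ hδ x _ y _ hxy =>
    (h5 _ _).2 (((h5 _ _).1 hxy).map (c.le hδ))) with h6 | h6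
  · exact fun x hx y hy => (h5 _ _).1 (h6 x hx y hy)
  rcases SB.Fr.qi_of_three (SB.Fr.nondeg_Q hD.fr he k.o) (SB.Fr.nondeg_Q hD.fr hf k.o) (SB.Fr.nondeg_Q hD.fr hg k.o)
    (Nat.pos_of_ne_zero (SB.Fr.rk_ne hD.fr he)) rfl (h2 f hf e he) (h2 g hg e he) with ⟨φ, hφ⟩ | ⟨φ, hφ⟩ | ⟨φ, hφ⟩
  exacts [absurd (h6 he hf ((h5 _ _).2 (SB.Fr.cj_Q hD.fr he hf hef φ k.o hφ))) hef,
    absurd (h6 he hg ((h5 _ _).2 (SB.Fr.cj_Q hD.fr he hg heg φ k.o hφ))) heg,
    absurd (h6 hf hg ((h5 _ _).2 (SB.Fr.cj_Q hD.fr hf hg hfg φ k.o hφ))) hfg]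

/-! ### the bridge -/

variable (Q R f) in
/-- the block is isometric to the model -/
def Bk : Prop := ∃ φ : X →ₗ[K] V, (∀ x, Q (φ x) = R x) ∧ LinearMap.range φ = rg h f

theorem bk_all (o : IsO h F Q) (hiso : SB.Cl.Isom F D) (he : e ∈ D) (ψ : X ≃ₗ[K] rg h e) (hψ : ∀ x, Q (ψ x) = R x) :
    ∀ f ∈ D, Bk Q R f := fun f hf => by
  obtain ⟨u, hu, rfl⟩ := hiso e he f hf
  exact ⟨(unE h u).toLinearMap ∘ₗ (rg h e).subtype ∘ₗ ψ.toLinearMap, fun x => ((SB.Tor.mem_Iso_O o u).1 hu _).trans (hψ x), by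
    rw [LinearMap.range_comp, LinearMap.range_comp, LinearEquiv.range, Submodule.map_top, Submodule.range_subtype,
      FixO.rg_cj]
    rfl⟩

theorem Q_sum {ι : Type} (s : Finset ι) (v : ι → V) (o : ∀ i j, i ≠ j → polar Q (v i) (v j) = 0) :
    Q (∑ i ∈ s, v i) = ∑ i ∈ s, Q (v i) := by
  classical
  induction s using Finset.induction_on with
  | empty => simp
  | insert a s ha ih =>
    rw [Finset.sum_insert ha, Finset.sum_insert ha, Q_add, ih, add_eq_left, ← polarBilin_apply_apply, map_sum]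
    exact Finset.sum_eq_zero fun j hj => o a j (by rintro rfl; exact ha hj)

theorem sum_ap (hD : Fr D) (v : V) : ∑ f : D, h.ap f v = v := by
  rw [Finset.sum_coe_sort D fun f => h.ap f v, ← show h.ap (∑ f ∈ D, f) v = _ from LinearMap.sum_apply D (fun f => h.ap f) v,
    hD.sum, h.ap_one]

theorem bridge (k : KO h F Q) (c : Ctx F H p) (hD : Fr D) (hI : Inv H D) (hR : Nondeg R) (hb : ∀ f ∈ D, Bk Q R f)
    (hG : 7 ≤ D.card * finrank K X → GT R D.card) : Gd F H := by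
  have : Module.Finite K X := Module.Finite.of_finite
  have hs : ∀ f : D, SI f.1 := fun f => ⟨hD.idem f f.2, hD.symm f f.2⟩
  choose φ hq hr using fun f : D => hb f f.2
  have h1 : ∀ f : D, finrank K (rg h f) = finrank K X := fun f => by
    rw [← hr, LinearMap.finrank_range_of_inj (inj_emb hR (hq f))]
  have h7 := k.dim.trans (SB.Tor.finrank_le_sum h hD.sum)
  rw [Finset.sum_congr rfl fun f hf => h1 ⟨f, hf⟩, Finset.sum_const, smul_eq_mul] at h7
  have : Nontrivial X := Module.nontrivial_of_finrank_pos (R := K) (Nat.pos_of_ne_zero fun k => by rw [k] at h7; omega)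
  obtain ⟨ι, _, _, hι, hG⟩ := hG h7
  obtain ⟨d⟩ : Nonempty (ι ≃ D) := ⟨Fintype.equivOfCardEq (hι.trans (Fintype.card_coe D).symm)⟩
  obtain ⟨Φ, h2, h3⟩ : ∃ Φ : (ι → X) ≃ₗ[K] V, (∀ v, Q (Φ v) = pq ι R v) ∧ ∀ i x, Φ (Pi.single i x) = φ (d i) x := by
    let Φ : (ι → X) →ₗ[K] V := LinearMap.lsum K (fun _ => X) K fun i => φ (d i)
    have h0 : ∀ v, Φ v = ∑ i, φ (d i) (v i) := fun v => LinearMap.sum_apply _ _ v
    have h2 : ∀ v, Q (Φ v) = pq ι R v := fun v => by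
      rw [pi_apply, h0, Q_sum _ _ fun i j hij => (k.o.2.1 _ _).symm.trans
        (SB.Tor.Fr.b_eq_zero h hD (d i).2 (d j).2 (fun e => hij (d.injective (Subtype.ext e)))
          ((hs _).mem_rg.1 ((hr _).le ⟨_, rfl⟩)) ((hs _).mem_rg.1 ((hr _).le ⟨_, rfl⟩)))]
      exact Finset.sum_congr rfl fun i _ => hq _ _
    refine ⟨LinearEquiv.ofBijective Φ ⟨inj_emb (nondeg_pq hR) h2, fun v => ?_⟩, h2,
      fun i x => LinearMap.lsum_piSingle K (fun _ => X) K _ i x⟩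
    choose x hx using fun f : D => (hr f).ge (⟨v, rfl⟩ : h.ap f v ∈ rg h f)
    refine ⟨fun i => x (d i), ?_⟩
    rw [h0, ← sum_ap hD v, ← d.sum_comp]
    exact Finset.sum_congr rfl fun i _ => hx _
  have h4 : ∀ v, pq ι R (Φ.symm v) = Q v := fun v => by rw [← h2, Φ.apply_symm_apply]
  obtain ⟨π, h5⟩ : ∃ π : E (pq ι R) →* E Q, ∀ g v, (π g).1 (Φ v) = Φ (g.1 v) :=
    ⟨((Emb.eqv Φ h2).up.comp (E _).subtype).codRestrict (E Q) fun g => E2_le_E k.good (Emb.up_E2 _ (E_le_E2 g.2)),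
      fun g => Emb.eqv_up Φ h2 g.1⟩
  have h6 : Function.Surjective π := fun g => ⟨⟨(Emb.eqv Φ.symm h4).up g, E2_le_E (good_of_finite (nondeg_pq hR)
    (by rw [finrank_pq, hι]; omega)) (Emb.up_E2 _ (E_le_E2 g.2))⟩, Subtype.ext (LinearEquiv.ext fun v => by
      obtain ⟨w, rfl⟩ := Φ.symm.symm.surjective v
      rw [LinearEquiv.symm_symm, h5, ← Φ.symm_apply_apply w, Emb.eqv_up, Φ.apply_symm_apply, Φ.apply_symm_apply])⟩
  refine (N2.good_comap ((piE k).comp π) ((piE_surj k).comp h6) _).1 ((congrArg FP3.Good ?_).mp hG)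
  refine Subgroup.ext fun g => ⟨?_, fun hg => mem_Wr (g := g.1) (E_le_O g.2) fun i => ?_⟩
  · rintro ⟨σ, a, -, hg⟩
    refine c.mem_of_inv (s := piE k (π g)) hI (FrSp.not_inv c hD) (piE k (π g)).2 fun f hf => ?_
    obtain ⟨i, hi⟩ := d.surjective ⟨f, hf⟩
    obtain rfl : (d i).1 = f := congrArg Subtype.val hi
    rw [(piE_eq k (hs _) (hs (d (σ i))) _).2 (im_eq (fun w hw => ?_) ((h1 _).trans (h1 _).symm).le)]
    · exact (d _).2
    obtain ⟨x, rfl⟩ := (hr _).ge hw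
    rw [← h3, h5, show g.1 = _ from hg, mon_single, h3]
    exact (hr _).le ⟨_, rfl⟩
  · obtain ⟨j, hj⟩ := d.surjective ⟨(piE k (π g)).1 (d i), hI _ hg _ (d i).2⟩
    refine ⟨j, fun x => ?_⟩
    obtain ⟨y, hy⟩ := (hr _).ge (((piE_eq k (hs _) (hs (d j)) (π g)).1 (congrArg Subtype.val hj).symm).le
      ⟨_, (hr _).le ⟨x, rfl⟩, rfl⟩)
    exact ⟨y, Φ.injective (by rw [← h5, h3, h3, hy]; rfl)⟩

/-! ### hyperbolic planes -/

theorem blk (hI : Inv H D) {γ : RingAut h.EB} (hγ : γ ∈ H) (L : SB.Tor.SL h γ) {w : V}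
    (hw : ∃ f ∈ D, h.ap f (L.g w) = L.g w) : ∃ f ∈ D, h.ap f w = w :=
  let ⟨f, hf, hw⟩ := hw
  ⟨γ⁻¹ f, hI _ (inv_mem hγ) f hf, L.g.injective (by rw [← L.conj, ra_apply_inv, hw])⟩

theorem hyp_b (o : IsO h F Q) {φ : K × K →ₗ[K] V} (hq : ∀ x, Q (φ x) = x.1 * x.2) (x y : K × K) :
    h.b (φ x) (φ y) = x.1 * y.2 + x.2 * y.1 := by
  simp only [o.2.1, polar, ← map_add, hq, Prod.fst_add, Prod.snd_add]
  ring

theorem hyp_two (k : KO h F Q) (c : Ctx F H p) (hK : Fintype.card K = 2) (hIrr : Irr H) (hD : Fr D) (hI : Inv H D)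
    (he : e ∈ D) {φ : K × K →ₗ[K] V} (hq : ∀ x, Q (φ x) = x.1 * x.2) (hr : LinearMap.range φ = rg h e) : False := by
  have : Nontrivial V := Module.nontrivial_of_finrank_pos (R := K) (by have := k.dim; omega)
  have hs : SI e := ⟨hD.idem e he, hD.symm e he⟩
  have h1 : ∀ x : K, x ≠ 0 → x = 1 := fun x hx => by
    have h1 := FiniteField.pow_card_sub_one_eq_one x hx
    rwa [hK, pow_one] at h1
  have h2 : (1 : K) + 1 = 0 := by
    have h2 := FiniteField.cast_card_eq_zero K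
    rwa [hK, Nat.cast_two, ← one_add_one_eq_two] at h2
  let I : Ideal h.EB :=
    { carrier := {a | ∀ w, Q w ≠ 0 → (∃ f ∈ D, h.ap f w = w) → h.ap a w = 0}
      zero_mem' := fun _ _ _ => rfl
      add_mem' := fun ha hb w k k' => by rw [h.ap_add, ha w k k', hb w k k', add_zero]
      smul_mem' := fun a b hb w k k' => by rw [smul_eq_mul, h.ap_mul, hb w k k', map_zero] }
  have h3 := hIrr I (fun γ hγ a ha w h3 h4 => by
    obtain ⟨L⟩ := SB.Tor.exists_SL h (c.le_SAut hγ)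
    obtain ⟨w, rfl⟩ := L.g.surjective w
    rw [L.conj, ha w (fun h5 => h3 (by rw [L.quad k.o (c.le hγ), h5, map_zero, mul_zero])) (blk hI hγ L h4), map_zero])
    (h.eb (h.ro (φ (1, 1)) (φ (1, 1)))) (fun w h3 ⟨f, hf, h4⟩ => by
      rw [h.ap_eb, h.ro_apply, smul_eq_zero]
      left
      by_cases h5 : f = e
      · obtain ⟨y, rfl⟩ := hr.ge (hs.mem_rg.2 (h5 ▸ h4))
        rw [hq] at h3
        rw [hyp_b k.o hq, h1 _ (left_ne_zero_of_mul h3), h1 _ (right_ne_zero_of_mul h3), mul_one, h2]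
      · exact SB.Tor.Fr.b_eq_zero h hD hf he h5 h4 (hs.mem_rg.1 (hr.le ⟨_, rfl⟩)))
    (h.eb (h.ro (φ (1, 0)) (φ (1, 0)))) (φ (1, 1)) (by simp [hq]) ⟨e, he, hs.mem_rg.1 (hr.le ⟨_, rfl⟩)⟩
  have h4 := congrArg Q h3
  simp [h.ap_mul, h.ap_eb, h.ro_apply, hyp_b k.o hq, hq] at h4

theorem hyp_three (k : KO h F Q) (c : Ctx F H p) (hK : Fintype.card K = 3) (hD : Fr D) (hI : Inv H D) (φ : D → K × K →ₗ[K] V)
    (hq : ∀ f x, Q (φ f x) = x.1 * x.2) (hr : ∀ f, LinearMap.range (φ f) = rg h f) : Gd F H := by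
  have : Nontrivial V := Module.nontrivial_of_finrank_pos (R := K) (by have := k.dim; omega)
  have hs : ∀ f : D, SI f.1 := fun f => ⟨hD.idem f f.2, hD.symm f f.2⟩
  have h0 : ∀ f x, h.ap f.1 (φ f x) = φ f x := fun f x => (hs f).mem_rg.1 ((hr f).le ⟨_, rfl⟩)
  have h1 : ∀ x : K, x ^ 3 = x := fun x => hK ▸ FiniteField.pow_card x
  have h2 : (3 : K) = 0 := by
    have h2 := FiniteField.cast_card_eq_zero K
    rwa [hK, Nat.cast_ofNat] at h2
  obtain ⟨e, he⟩ : ∃ e : h.EB, e = ∑ f, h.eb (h.ro (φ f (1, 1)) (φ f (1, 1))) := ⟨_, rfl⟩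
  have h3 : ∀ f x, h.ap (-e) (φ f x) = φ f (-(x.1 + x.2) • (1, 1)) := fun f x => by
    rw [map_smul, neg_smul, he]
    refine congrArg (-·) ((LinearMap.sum_apply _ (fun f => h.ro (φ f (1, 1)) (φ f (1, 1))) _).trans ?_)
    rw [Finset.sum_eq_single f (fun g _ hg => by
      rw [h.ro_apply, SB.Tor.Fr.b_eq_zero h hD f.2 g.2 (fun k => hg (Subtype.ext k.symm)) (h0 _ _) (h0 _ _), zero_smul])
      (by simp), h.ro_apply, hyp_b k.o (hq f), mul_one, mul_one]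
  have h4 : ∀ w, (∃ f ∈ D, h.ap f w = w) → (Q w = 1 → h.ap (-e) w = w) ∧ (Q w = -1 → h.ap (-e) w = 0) := by
    rintro w ⟨f, hf, hw⟩
    obtain ⟨⟨a, b⟩, rfl⟩ := (hr ⟨f, hf⟩).ge ((hs _).mem_rg.2 hw)
    rw [hq, h3]
    refine ⟨fun hx => ?_, fun hx => ?_⟩
    · obtain rfl : b = a := by linear_combination (-b + a ^ 2 * b + a) * hx - b ^ 2 * h1 a
      exact congrArg _ (Prod.ext (by simp; linear_combination -b * h2) (by simp; linear_combination -b * h2))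
    · rw [show a + b = 0 by linear_combination (b - a ^ 2 * b + a) * hx + b ^ 2 * h1 a, neg_zero, zero_smul, map_zero]
  have h5 : ∀ a b : h.EB, (∀ w, (∃ f ∈ D, h.ap f w = w) → Q w = 1 ∨ Q w = -1 → h.ap a w = h.ap b w) → a = b :=
    fun a b hab => h.ap_ext fun v => by
      rw [← sum_ap hD v, map_sum, map_sum]
      refine Finset.sum_congr rfl fun f _ => ?_
      obtain ⟨x, hx⟩ := (hr f).ge (⟨v, rfl⟩ : h.ap f v ∈ rg h f)
      rw [← hx, show x = -(x.1 + x.2) • (1, 1) + (x.2 - x.1) • (1, -1) from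
        Prod.ext (by simp; linear_combination x.1 * h2) (by simp; linear_combination x.2 * h2)]
      simp only [map_add, map_smul, hab _ ⟨f, f.2, h0 f (1, 1)⟩ (Or.inl (by simp [hq])),
        hab _ ⟨f, f.2, h0 f (1, -1)⟩ (Or.inr (by simp [hq]))]
  obtain ⟨f, hf⟩ : D.Nonempty := Finset.card_pos.1 (two_pos.trans_le hD.two)
  refine two (e := -e) k c (fun h6 => ?_) (fun h6 => ?_) (h5 _ _ fun w hw h6 => ?_) ?_ fun γ hγ => ?_
  · have h7 := (h4 _ ⟨f, hf, h0 ⟨f, hf⟩ (1, 1)⟩).1 (by simp [hq])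
    simpa [h6, SB.Tor.ap_zero, hq] using congrArg Q h7
  · have h7 := (h4 _ ⟨f, hf, h0 ⟨f, hf⟩ (1, -1)⟩).2 (by simp [hq])
    simpa [h6, h.ap_one, hq] using congrArg Q h7
  · rw [h.ap_mul]
    exact h6.elim (fun h6 => by rw [(h4 w hw).1 h6, (h4 w hw).1 h6]) fun h6 => by rw [(h4 w hw).2 h6, map_zero]
  · rw [star_neg, he, star_sum]
    exact congrArg (-·) (Finset.sum_congr rfl fun f _ => h.ap_ext fun v => by
      rw [SB.Cl.ap_star_ro, k.o.1, SB.Tor.O_symm k.o]; rfl)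
  obtain ⟨L⟩ := SB.Tor.exists_SL h (c.le_SAut hγ)
  have h7 : ∀ x : K, x ≠ 0 → x * x = 1 := fun x hx => mul_left_cancel₀ hx (by linear_combination h1 x)
  have h6 : ∀ w, Q w = L.μ * Q (L.g w) := fun w => by
    rw [L.quad k.o (c.le hγ), ← mul_assoc, h7 _ L.μ_ne, one_mul]
    rcases eq_or_ne (Q w) 0 with h6 | h6
    · rw [h6, map_zero]
    · rcases mul_self_eq_one_iff.1 (h7 _ h6) with h6 | h6 <;> simp [h6]
  refine (mul_self_eq_one_iff.1 (h7 _ L.μ_ne)).imp (fun h8 => h5 _ _ fun w hw h9 => ?_) fun h8 => h5 _ _ fun w hw h9 => ?_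
  all_goals
    obtain ⟨w, rfl⟩ := L.g.surjective w
    have h10 := h6 w
    have h11 := h4 w (blk hI hγ L hw)
    rw [L.conj]
  · rw [h8, one_mul] at h10
    exact h9.elim (fun h9 => by rw [h11.1 (h10.trans h9), (h4 _ hw).1 h9]) fun h9 => by
      rw [h11.2 (h10.trans h9), (h4 _ hw).2 h9, map_zero]
  · rw [h8, neg_one_mul] at h10
    rw [h.ap_sub, h.ap_one]
    exact h9.elim (fun h9 => by rw [h11.2 (by rw [h10, h9]), (h4 _ hw).1 h9, map_zero, sub_self]) fun h9 => by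
      rw [h11.1 (by rw [h10, h9, neg_neg]), (h4 _ hw).2 h9, sub_zero]

/-! ### odd dimension -/

theorem gt_rg (k : KO h F Q) (he : SI e) {j t : ℕ} (hj : finrank K (rg h e) = 2 * j + 1) (ht : 3 ≤ t)
    (h7 : 7 ≤ t * (2 * j + 1)) : GT (res Q (rg h e)) t := by
  have : Module.Finite K V := Module.Finite.of_finite
  have n := nd_rg k he
  obtain ⟨u, hu, r⟩ := N2.C1.exists_rg (X := ⊤) (· ∈ I0 F) (fun _ hy _ hu => mul_mem hy hu) (fun _ hu => FR.comm_le_Iso hu)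
    one_ne_zero (fun Y _ h3 => (exists_sing_mem (Q := Q) Y h3).imp fun x hx => ⟨hx.1, hx.2.1,
      (k.o.2.1 x x).trans (polar_self_of_sing hx.2.2), fun t ht => ⟨_, k.eich hx.2.2 ht⟩⟩) le_rfl
    (fun _ _ _ hY => ⟨1, one_mem _, N2.C1.rg_one hY⟩) j _ le_top he.nd (hj.trans (add_comm _ _))
  let g := LinearEquiv.ofInjectiveEndo ((h.ap u).restrict r.sb.iv.of_sub_one) fun x y e =>
    Subtype.ext ((unE h u).injective (congrArg Subtype.val e))
  have h1 : ∀ i y, (aeval g.toLinearMap ((Polynomial.X - Polynomial.C (1 : K)) ^ i) y).1 = ((h.ap u - 1) ^ i) y := fun i y =>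
    (aeval_map (g := h.ap u) (u := g.toLinearMap) (rg h e).subtype (fun _ => rfl) _ y).symm.trans (by
      rw [map_pow, map_sub, Polynomial.aeval_X, Polynomial.C_1, map_one]; rfl)
  have h2 : ∀ i, 2 * j + 1 ≤ i → ∀ y, aeval g.toLinearMap ((Polynomial.X - Polynomial.C (1 : K)) ^ i) y = 0 := fun i hi y =>
    Subtype.ext ((h1 i y).trans (r.sb.nl.fin r.sb.iv (hj.trans_le hi) y.2))
  obtain ⟨w, hw⟩ : ∃ w, aeval g.toLinearMap ((Polynomial.X - Polynomial.C (1 : K)) ^ (2 * j)) w ≠ 0 := by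
    by_contra h3
    push Not at h3
    have h4 := (Submodule.finrank_mono (le_inf (fun y hy => (h1 _ ⟨y, hy⟩).symm.trans (congrArg Subtype.val (h3 _)))
      le_rfl)).trans (r.sb.ker_pow (2 * j))
    omega
  have h3 := two_ne_of_odd n ⟨j, hj⟩
  have h4 : Odd (Fintype.card K ^ j) := (Nat.odd_iff.2 (FiniteField.odd_card_of_char_ne_two fun k => h3 (by
    rw [← Nat.cast_ofNat, ← k]; exact ringChar.Nat.cast_ringChar))).pow
  refine gt_odd n hj (u := g) (fun x => (SB.Tor.mem_Iso_O k.o u).1 (FR.comm_le_Iso hu) x) (cycV_iff.2 ⟨w, orb_pow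
    (Polynomial.irreducible_X_sub_C 1) (by rw [Polynomial.natDegree_X_sub_C, mul_one, hj]) (h2 _ le_rfl) hw⟩) h4
    (LinearEquiv.ext fun y => ?_) (fun k => by rw [k, pow_zero]) ht h7
  have h5 := h2 (Fintype.card K ^ j) (by
    have := (lt_three j).trans (Nat.pow_le_pow_left (three_le h3).1 j)
    obtain ⟨m, hm⟩ := h4
    omega) y
  obtain ⟨l, hl⟩ := CharP.exists K
  obtain ⟨i, hp, hi⟩ := FiniteField.card K l
  have := Fact.mk hp
  rw [hi, ← pow_mul, sub_pow_char_pow, pow_mul, ← hi, Polynomial.C_1, one_pow, map_sub, map_pow, Polynomial.aeval_X,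
    map_one] at h5
  exact (LinearMap.congr_fun (map_pow LinearEquiv.automorphismGroup.toLinearMapMonoidHom g _) y).trans (sub_eq_zero.1 h5)

theorem many (k : KO h F Q) (c : Ctx F H p) (hIrr : Irr H) (hD : Fr D) (hI : Inv H D) (h3 : 2 < D.card)
    (hiso : SB.Cl.Isom F D) : Gd F H := by
  have : Module.Finite K V := Module.Finite.of_finite
  obtain ⟨e, he⟩ : D.Nonempty := Finset.card_pos.1 (by omega)
  have hs : SI e := ⟨hD.idem e he, hD.symm e he⟩
  have n := nd_rg k hs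
  obtain ⟨j, hj | hj⟩ := Nat.even_or_odd' (finrank K (rg h e))
  swap
  · exact bridge k c hD hI n (bk_all k.o hiso he (LinearEquiv.refl K _) fun _ => rfl) fun h7 => gt_rg k hs hj h3 (hj ▸ h7)
  have h0 : j ≠ 0 := fun h0 => SB.Fr.rk_ne hD he (hj.trans (by rw [h0]))
  have h1 : ∀ ε, Mo K j ε → Sg (res Q (rg h e)) j ε → Gd F H := fun ε ⟨X, _, _, _, R, hR, hG⟩ h1 =>
    let ⟨ψ, hψ⟩ := hR.exists_equiv h1
    bridge k c hD hI hR.nondeg (bk_all k.o hiso he ψ hψ) fun h7 => hG _ h3 (hR.dim ▸ h7)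
  rcases FixO.exists_sg n hj with h2 | h2
  swap
  · exact h1 _ (mo_minus h0) h2
  by_cases h4 : j = 1 → 3 < Fintype.card K
  · exact h1 _ (mo_plus h0 h4) h2
  obtain ⟨rfl, h4⟩ := Classical.not_imp.1 h4
  obtain ⟨ψ, hψ⟩ := (H530.OZ.sg_tq K K (finrank_self K)).exists_equiv h2
  choose φ hq hr using fun f : D => bk_all k.o hiso he ψ hψ f f.2
  simp only [H530.CJ.tq_apply, Algebra.trace_self_apply] at hq
  have := two_le_q K
  obtain h5 | h5 : Fintype.card K = 2 ∨ Fintype.card K = 3 := by omega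
  exacts [(hyp_two k c h5 hIrr hD hI he (hq ⟨e, he⟩) (hr _)).elim, hyp_three k c h5 hD hI φ hq hr]

end Cfsg.Agent.N2C.FrO

namespace Cfsg.Agent.N2C

/-- [FrO] -/
theorem frO : OnO pFr := fun _ _ _ _ _ _ _ _ _ _ _ _ k c ⟨hIrr, hx, D, hD, hI, _⟩ => by
  classical
  obtain ⟨D, hD⟩ := SB.Fr.exists_minFr ⟨D, hD, hI⟩
  rcases hD.fr.two.eq_or_lt with h2 | h2
  swap
  · exact FrO.many k c hIrr hD.fr hD.inv h2 (FrO.isom k c hx hD h2)
  obtain ⟨e, f, hef, rfl⟩ := Finset.card_eq_two.1 h2.symm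
  have he := Finset.mem_insert_self e {f}
  obtain rfl : f = 1 - e := eq_sub_of_add_eq' ((Finset.sum_pair (f := fun x => x) hef).symm.trans hD.fr.sum)
  exact FrO.two k c (hD.fr.ne e he) (hD.fr.ne_one he) (hD.fr.idem e he) (hD.fr.symm e he) fun γ hγ => by
    simpa using hD.inv γ hγ e he

end Cfsg.Agent.N2C
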