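import Cfsg.Agent.N2.Cl.Cyc.Vec
import Cfsg.Agent.N2.Cl.FrSp.Num
import Cfsg.Agent.H955.QSpace

/-!
# N2 (S3519), orthogonal groups, frames: centralisers in `O(Q)` (helper76)

`cQ Q g` is the order of the centraliser of `g` in `O Q`; bounds for cyclic elements and for orthogonal sums.
-/

set_option autoImplicit false
set_option linter.unusedSectionVars false

namespace Cfsg.Agent.N2C.FrO

open Module QuadraticMap Polynomial Cfsg.Agent.DS.Cl Cfsg.Agent.DS.Cl.Fwd Cfsg.Agent.N2C.Cyc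
open Cfsg.Agent.LieClassical.OrthCore
open Cfsg.Agent.H955 (osum osum_apply polar_osum)

variable {K V X Y : Type} [Field K] [AddCommGroup V] [Module K V] [AddCommGroup X] [Module K X] [AddCommGroup Y]
  [Module K Y] {Q : QuadraticForm K V} {R : QuadraticForm K X} {S : QuadraticForm K Y}

section lin

theorem orb_le_of {g : End K V} {U : Submodule K V} (hU : ∀ u ∈ U, g u ∈ U) {v : V} (hv : v ∈ U) : orb g v ≤ U := by
  rintro _ ⟨f, rfl⟩
  exact aeval_apply_smul_mem_of_le_comap hv f g hU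

theorem aeval_map {g : End K V} {u : End K X} (φ : X →ₗ[K] V) (h : ∀ x, g (φ x) = φ (u x)) (f : K[X]) (x : X) :
    aeval g f (φ x) = φ (aeval u f x) := by
  induction f using Polynomial.induction_on with
  | C a => simp
  | add p q hp hq => simp [hp, hq]
  | monomial n a ih =>
    rw [pow_succ', mul_left_comm, aeval_mul_apply, aeval_mul_apply u, ih, aeval_X, aeval_X, h]

theorem CycV.map {g : End K V} {u : End K X} (hu : CycV u) (φ : X →ₗ[K] V) (hφ : Function.Surjective φ)
    (h : ∀ x, g (φ x) = φ (u x)) : CycV g := by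
  obtain ⟨v, hv⟩ := hu
  refine ⟨φ v, fun x => ?_⟩
  obtain ⟨y, rfl⟩ := hφ x
  exact (hv y).imp fun f hf => by rw [aeval_map φ h, hf]

/-- the annihilator has the largest possible degree -/
theorem orb_eq_top [Module.Finite K V] {g : End K V} {w : V} {μ : K[X]} (h0 : μ ≠ 0) (h : finrank K V ≤ μ.natDegree)
    (h1 : ∀ f : K[X], aeval g f w = 0 → μ ∣ f) : orb g w = ⊤ := by
  refine Submodule.eq_top_of_finrank_eq (le_antisymm (Submodule.finrank_le _) ?_)
  have h3 : LinearIndependent K fun i : Fin (finrank K V) => (⟨(g ^ (i : ℕ)) w, pow_mem_orb g w i⟩ : orb g w) := by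
    refine Fintype.linearIndependent_iff.2 fun c hc i => ?_
    have h4 := h1 (∑ j : Fin (finrank K V), C (c j) * Polynomial.X ^ (j : ℕ)) (by
      simpa [Algebra.algebraMap_eq_smul_one] using congrArg Subtype.val hc)
    have h5 : (∑ j : Fin (finrank K V), C (c j) * Polynomial.X ^ (j : ℕ) : K[X]) = 0 :=
      eq_zero_of_dvd_of_degree_lt h4 ((degree_sum_fin_lt c).trans_le (by
        rw [degree_eq_natDegree h0]
        exact_mod_cast h))
    simpa [coeff_X_pow, Fin.val_inj] using congrArg (coeff · i) h5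
  simpa using h3.fintype_card_le_finrank

/-- kernels in a cyclic module -/
theorem CycV.ker_le [Module.Finite K V] {g : End K V} (hg : CycV g) {p : K[X]} (hp : p.Monic) :
    finrank K (LinearMap.ker (aeval g p)) ≤ p.natDegree := by
  obtain ⟨v, hv⟩ := hg
  let U := Submodule.span K (Set.range fun i : Fin p.natDegree => (g ^ (i : ℕ)) v)
  have h1 : U ⊔ LinearMap.range (aeval g p) = ⊤ := eq_top_iff.2 fun x _ => by
    obtain ⟨f, rfl⟩ := hv x
    rw [← modByMonic_add_div f p, map_add, LinearMap.add_apply, aeval_mul_apply]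
    refine Submodule.add_mem_sup ?_ ⟨_, rfl⟩
    by_cases h0 : f %ₘ p = 0
    · rw [h0, map_zero]
      exact U.zero_mem
    rw [aeval_eq_sum_range' (natDegree_lt_natDegree h0 (degree_modByMonic_lt f hp)), LinearMap.sum_apply]
    exact U.sum_mem fun i hi => U.smul_mem _ (Submodule.subset_span ⟨⟨i, Finset.mem_range.1 hi⟩, rfl⟩)
  have h2 := Submodule.finrank_add_le_finrank_add_finrank U (LinearMap.range (aeval g p))
  have h3 := (aeval g p).finrank_range_add_finrank_ker
  have h4 : finrank K U ≤ p.natDegree := (finrank_range_le_card _).trans (Fintype.card_fin _).le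
  rw [h1, finrank_top] at h2
  omega

end lin

/-- the order of the centraliser in the orthogonal group -/
noncomputable def cQ (Q : QuadraticForm K V) (g : V ≃ₗ[K] V) : ℕ := Nat.card {x : V ≃ₗ[K] V // x ∈ O Q ∧ x * g = g * x}

theorem finL (K V : Type) [Field K] [AddCommGroup V] [Module K V] [Finite V] : Finite (V ≃ₗ[K] V) :=
  Finite.of_injective (fun g : V ≃ₗ[K] V => (g : V → V)) DFunLike.coe_injective

theorem cn_eq_cQ (g : O Q) : N2.cn g = cQ Q g :=
  Nat.card_congr
    { toFun := fun x => ⟨x.1, x.1.2, congrArg Subtype.val (Subgroup.mem_centralizer_singleton_iff.1 x.2)⟩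
      invFun := fun v => ⟨⟨v.1, v.2.1⟩, Subgroup.mem_centralizer_singleton_iff.2 (Subtype.ext v.2.2)⟩
      left_inv := fun _ => rfl
      right_inv := fun _ => rfl }

variable [Fintype K] [Finite V] [Finite X] [Finite Y] {g : V ≃ₗ[K] V} {u : X ≃ₗ[K] X} {w : Y ≃ₗ[K] Y}

theorem cQ_le_O (Q : QuadraticForm K V) (g : V ≃ₗ[K] V) : cQ Q g ≤ Nat.card (O Q) :=
  have := finL K V
  Nat.card_le_card_of_injective (fun x => ⟨x.1, x.2.1⟩) fun _ _ e => Subtype.ext (Subtype.mk.inj e)

theorem cQ_congr (e : V ≃ₗ[K] X) (he : ∀ v, R (e v) = Q v) (h : ∀ v, u (e v) = e (g v)) : cQ Q g ≤ cQ R u := by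
  have := finL K X
  refine Nat.card_le_card_of_injective (fun x => ⟨(e.symm.trans x.1).trans e, fun v => ?_, LinearEquiv.ext fun v => ?_⟩)
    fun x y k => Subtype.ext (LinearEquiv.ext fun v => e.injective ?_)
  · rw [LinearEquiv.trans_apply, he, LinearEquiv.trans_apply, x.2.1, ← he, e.apply_symm_apply]
  · obtain ⟨v, rfl⟩ := e.surjective v
    have h1 : x.1 (g v) = g (x.1 v) := LinearEquiv.congr_fun x.2.2 v
    simp only [LinearEquiv.mul_apply, LinearEquiv.trans_apply, h, e.symm_apply_apply, h1]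
  · simpa using LinearEquiv.congr_fun (Subtype.mk.inj k) (e v)

/-- the polar form -/
def hfQ (hQ : Nondeg Q) : HF K V where
  τ := RingHom.id K
  ε := 1
  b := polar Q
  add_left := polar_add_left Q
  smul_left := polar_smul_left Q
  swap u v := by rw [one_mul, polar_comm]; rfl
  τ_τ _ := rfl
  nondeg v h := hQ v fun y => by rw [polar_comm, h]

theorem hf_unit (hQ : Nondeg Q) (hg : g ∈ O Q) : (hfQ hQ).eb g * star ((hfQ hQ).eb g) = 1 :=
  SB.Idem.mul_star_of_b _ (polar_map hg)

theorem cQ_le_cU (hQ : Nondeg Q) (g : V ≃ₗ[K] V) : cQ Q g ≤ cU ((hfQ hQ).eb g) :=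
  Nat.card_le_card_of_injective
    (fun x => ⟨(hfQ hQ).eb x.1, hf_unit hQ x.2.1, congrArg LinearEquiv.toLinearMap x.2.2⟩)
    fun _ _ e => Subtype.ext (LinearEquiv.toLinearMap_injective (Subtype.mk.inj e))

theorem isUnit_of (h : HF K V) {a : h.EB} (k : ∀ v, h.ap a v = 0 → v = 0) : IsUnit a :=
  have : Module.Finite K V := Module.Finite.of_finite
  (LinearMap.isUnit_iff_ker_eq_bot (h.ap a)).2 (LinearMap.ker_eq_bot'.2 k)

/-- no eigenvalue `1`, `-1` -/
theorem cQ_one (hQ : Nondeg Q) (hg : g ∈ O Q) (hc : CycV (g : End K V)) (h : ∀ v, g (g v) = v → v = 0) :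
    cQ Q g ≤ (Fintype.card K + 1) ^ (finrank K V / 2) :=
  (cQ_le_cU hQ g).trans (cU_le_bil_one (fun _ => rfl) (hf_unit hQ hg) hc
    (isUnit_of _ fun v k => h v (by
      have h1 : g v = v := sub_eq_zero.1 k
      rw [h1, h1]))
    (isUnit_of _ fun v k => h v (by
      have h1 : g v = -v := eq_neg_of_add_eq_zero_left k
      rw [h1, map_neg, h1, neg_neg])))

/-- odd order, odd characteristic -/
theorem cQ_odd (hQ : Nondeg Q) (h2 : (2 : K) ≠ 0) (hg : g ∈ O Q) (hc : CycV (g : End K V)) {N : ℕ} (hN : Odd N)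
    (h : g ^ N = 1) : cQ Q g ≤ 2 * (Fintype.card K + 1) ^ (finrank K V / 2) := by
  obtain ⟨c, h3, h4⟩ := exists_tr_of_two (A := (hfQ hQ).EB) (isUnit_of _ fun v k =>
    (smul_eq_zero.1 (show (2 : K) • v = 0 by
      rw [two_smul]
      rwa [← one_add_one_eq_two] at k)).resolve_left h2) ((hfQ hQ).eb g)
  refine (cQ_le_cU hQ g).trans (cU_le_bil (fun _ => rfl) (hf_unit hQ hg) hc h3 h4 {1} fun ε e k =>
    Finset.mem_singleton.2 (e.resolve_right fun e => k (isUnit_of _ fun v hv => ?_)))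
  have h5 : g v = -v := by
    rw [e] at hv
    exact (sub_eq_zero.1 hv).trans (neg_one_smul K v)
  have h6 : ∀ j : ℕ, (g ^ (2 * j + 1)) v = -v := fun j => by
    induction j with
    | zero => exact h5
    | succ j ih =>
      rw [show 2 * (j + 1) + 1 = 2 * j + 1 + 1 + 1 from rfl, pow_succ, pow_succ, LinearEquiv.mul_apply,
        LinearEquiv.mul_apply, h5, map_neg, h5, neg_neg, ih]
  obtain ⟨j, rfl⟩ := hN
  have h7 := h6 j
  rw [h] at h7
  exact (smul_eq_zero.1 (show (2 : K) • v = 0 by rw [two_smul]; exact add_eq_zero_iff_eq_neg.2 h7)).resolve_left h2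

/-- an element of order nine of `O₆(2)` -/
theorem cQ_nine (hQ : Nondeg Q) (hK : Fintype.card K = 2) (hV : finrank K V = 6) (hg : g ∈ O Q) (hc : CycV (g : End K V))
    (h9 : g ^ 9 = 1) (h3 : ∀ v, (g ^ 3) v = v → v = 0) : cQ Q g ≤ 9 := by
  have h1 := CycV.cA_le (h := hfQ hQ) (u := (hfQ hQ).eb g) hc
  have hc' := CycV.isCyc (h := hfQ hQ) (u := (hfQ hQ).eb g) hc
  have hp : ∀ n : ℕ, (hfQ hQ).eb g ^ n = (hfQ hQ).eb (g ^ n : V ≃ₗ[K] V) := fun n =>
    (map_pow (LinearEquiv.automorphismGroup.toLinearMapMonoidHom (R := K) (M := V)) g n).symm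
  rw [hK, hV] at h1
  refine (cQ_le_cU hQ g).trans (cU_le_field' (hf_unit hQ hg) hc' (fun x hx h0 => ?_) rfl (fun e => ?_) (ν := 8) h1)
  · refine (FrSp.field9 (R := Cn hc') (a := Cn.mk _ _ rfl) (x := Cn.mk _ x hx) (Cn.val_inj ?_) (cA_eq hc' ▸ h1)
      (Cn.val_inj ?_) (Cn.isUnit ?_) fun e => h0 (congrArg Cn.val e)).map Cn.val
    · rw [map_ofNat, map_zero]
      have h2 : ((2 : ℕ) : K) = 0 := hK ▸ FiniteField.cast_card_eq_zero K
      have h4 := map_natCast (algebraMap K (End K V)) 2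
      rw [h2, map_zero] at h4
      exact h4.symm
    · rw [map_pow, map_one]
      exact (hp 9).trans (by rw [h9]; rfl)
    · rw [map_sub, map_pow, map_one]
      exact isUnit_of _ fun v hv => h3 v (sub_eq_zero.1 ((congrArg (fun a => (hfQ hQ).ap (a - 1) v) (hp 3)).symm.trans hv))
  · have h2 := hf_unit hQ hg
    rw [e, ← pow_two, hp] at h2
    have h4 : g ^ 2 = 1 := LinearEquiv.toLinearMap_injective h2
    have : Nontrivial V := Module.nontrivial_of_finrank_pos (R := K) (by omega)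
    obtain ⟨v, hv⟩ := exists_ne (0 : V)
    exact hv (h3 v (by rw [(pow_eq_one_iff_of_coprime (by decide)).1 ⟨h4, h9⟩, one_pow]; rfl))

/-! ### orthogonal sums -/

theorem prod_mem_O (hw : w ∈ O S) (hu : u ∈ O R) : w.prodCongr u ∈ O (osum S R) := fun v => by
  rw [osum_apply, osum_apply]
  exact congrArg₂ _ (hw _) (hu _)

/-- `f` determines the action on the second summand -/
theorem cQ_fib (hR : Nondeg R) {Z : Type} [Finite Z]
    (f : {x : (Y × X) ≃ₗ[K] (Y × X) // x ∈ O (osum S R) ∧ x * w.prodCongr u = w.prodCongr u * x} → Z)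
    (hf : ∀ x y, f x = f y → ∀ b, x.1 (0, b) = y.1 (0, b)) :
    cQ (osum S R) (w.prodCongr u) ≤ cQ S w * Nat.card Z := by
  classical
  have := finL K (Y × X)
  have := finL K Y
  have : Module.Finite K Y := Module.Finite.of_finite
  have := Fintype.ofFinite {x : (Y × X) ≃ₗ[K] (Y × X) // x ∈ O (osum S R) ∧ x * w.prodCongr u = w.prodCongr u * x}
  have := Fintype.ofFinite Z
  rw [cQ, Nat.card_eq_fintype_card, Nat.card_eq_fintype_card (α := Z), ← Finset.card_univ, ← Finset.card_univ]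
  refine Finset.card_le_mul_card_image_of_maps_to (f := f) (fun _ _ => Finset.mem_univ _) _ fun z _ => ?_
  by_cases h0 : ∃ v, f v = z
  swap
  · rw [Finset.filter_eq_empty_iff.2 fun v _ e => h0 ⟨v, e⟩]
    exact Nat.zero_le _
  obtain ⟨x₀, rfl⟩ := h0
  rw [← Nat.card_eq_finsetCard]
  have h1 : ∀ x : Finset.univ.filter fun v => f v = f x₀, ∃ y : {y : Y ≃ₗ[K] Y // y ∈ O S ∧ y * w = w * y},
      ∀ a, (x₀.1⁻¹ * x.1.1) (a, 0) = (y.1 a, 0) := fun x => by
    obtain ⟨d, hd⟩ : ∃ d, d = x₀.1⁻¹ * x.1.1 := ⟨_, rfl⟩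
    have h2 : d ∈ O (osum S R) := hd ▸ mul_mem (inv_mem x₀.2.1) x.1.2.1
    have h3 : ∀ b, d (0, b) = (0, b) := fun b => by
      rw [hd, LinearEquiv.mul_apply, hf _ _ (Finset.mem_filter.1 x.2).2]
      exact x₀.1.symm_apply_apply _
    have h4 : ∀ a, d (a, 0) = ((d (a, 0)).1, 0) := fun a => Prod.ext rfl (hR _ fun b => by
      have h5 := polar_map h2 (a, 0) (0, b)
      rwa [h3, polar_osum, polar_osum, polar_zero_right, polar_zero_right, polar_zero_left, zero_add, zero_add] at h5)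
    have h5 : d * w.prodCongr u = w.prodCongr u * d :=
      hd ▸ ((show Commute x₀.1 _ from x₀.2.2).inv_left.mul_left x.1.2.2).eq
    rw [← hd]
    refine ⟨⟨LinearEquiv.ofInjectiveEndo (LinearMap.fst K Y X ∘ₗ d.toLinearMap ∘ₗ LinearMap.inl K Y X) fun a a' e =>
      (Prod.mk.inj (d.injective ((h4 a).trans ((congrArg (·, 0) e).trans (h4 a').symm)))).1, fun a => ?_,
      LinearEquiv.ext fun a => ?_⟩, h4⟩
    · have h6 := h2 (a, 0)
      rwa [h4, osum_apply, osum_apply, add_left_inj] at h6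
    · have h6 := congrArg Prod.fst (LinearEquiv.congr_fun h5 (a, 0))
      rwa [LinearEquiv.mul_apply, LinearEquiv.prodCongr_apply, map_zero] at h6
  choose y hy using h1
  refine Nat.card_le_card_of_injective y fun x x' e => Subtype.ext (Subtype.ext (mul_left_cancel (a := x₀.1⁻¹)
    (LinearEquiv.ext fun ⟨a, b⟩ => ?_)))
  rw [show (a, b) = (a, 0) + (0, b) by simp, map_add, map_add, hy, hy, e, LinearEquiv.mul_apply, LinearEquiv.mul_apply,
    hf _ _ ((Finset.mem_filter.1 x.2).2.trans (Finset.mem_filter.1 x'.2).2.symm)]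

theorem aeval_prod (p : K[X]) (v : Y × X) : aeval (w.prodCongr u : End K (Y × X)) p v =
    (aeval (w : End K Y) p v.1, aeval (u : End K X) p v.2) :=
  Prod.ext (aeval_map (LinearMap.fst K Y X) (fun _ => rfl) p v).symm (aeval_map (LinearMap.snd K Y X) (fun _ => rfl) p v).symm

/-- coprime summands -/
theorem cQ_mul (hR : Nondeg R) (p : K[X]) (h1 : ∀ a, aeval (w : End K Y) p a = 0 → a = 0)
    (h2 : ∀ b, aeval (u : End K X) p b = 0) : cQ (osum S R) (w.prodCongr u) ≤ cQ S w * cQ R u := by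
  have := finL K X
  have : Module.Finite K X := Module.Finite.of_finite
  have h3 : ∀ x : {x : (Y × X) ≃ₗ[K] (Y × X) // x ∈ O (osum S R) ∧ x * w.prodCongr u = w.prodCongr u * x},
      ∃ y : {y : X ≃ₗ[K] X // y ∈ O R ∧ y * u = u * y}, ∀ b, x.1 (0, b) = (0, y.1 b) := fun ⟨d, h3, h4⟩ => by
    have h5 : ∀ b, d (0, b) = (0, (d (0, b)).2) := fun b => Prod.ext (h1 _ (congrArg Prod.fst ((aeval_prod p _).symm.trans
      (ker_inv (x := (d : End K (Y × X))) (congrArg LinearEquiv.toLinearMap h4) p (by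
        rw [aeval_prod, h2, map_zero]; rfl))))) rfl
    refine ⟨⟨LinearEquiv.ofInjectiveEndo (LinearMap.snd K Y X ∘ₗ d.toLinearMap ∘ₗ LinearMap.inr K Y X) fun a a' e =>
      (Prod.mk.inj (d.injective ((h5 a).trans ((congrArg (0, ·) e).trans (h5 a').symm)))).2, fun a => ?_,
      LinearEquiv.ext fun a => ?_⟩, h5⟩
    · have h6 := h3 (0, a)
      rwa [h5, osum_apply, osum_apply, add_right_inj] at h6
    · have h6 := congrArg Prod.snd (LinearEquiv.congr_fun h4 (0, a))
      rwa [LinearEquiv.mul_apply, LinearEquiv.prodCongr_apply, map_zero] at h6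
  choose y hy using h3
  exact cQ_fib hR y fun x x' e b => by rw [hy, hy, e]

/-- two cyclic summands -/
theorem cQ_cyc (hR : Nondeg R) (hw : CycV (w : End K Y)) (hu : CycV (u : End K X)) {M : ℕ}
    (hM : ∀ c, Nat.card {b : X // R b = c} ≤ M) :
    cQ (osum S R) (w.prodCongr u) ≤ cQ S w * (Fintype.card K ^ finrank K X * M) := by
  classical
  have : Module.Finite K X := Module.Finite.of_finite
  have : Module.Finite K Y := Module.Finite.of_finite
  obtain ⟨v, hv⟩ := hu
  let p := (u : End K X).charpoly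
  have h1 : ∀ x : {x : (Y × X) ≃ₗ[K] (Y × X) // x ∈ O (osum S R) ∧ x * w.prodCongr u = w.prodCongr u * x},
      (x.1 (0, v)).1 ∈ LinearMap.ker (aeval (w : End K Y) p) := fun x => congrArg Prod.fst ((aeval_prod p _).symm.trans
    (ker_inv (x := (x.1 : End K (Y × X))) (congrArg LinearEquiv.toLinearMap x.2.2) p (by
      rw [aeval_prod, LinearMap.aeval_self_charpoly, map_zero]; rfl)))
  refine (cQ_fib hR (Z := Σ a : LinearMap.ker (aeval (w : End K Y) p), {b : X // R b = R v - S a})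
    (fun x => ⟨⟨_, h1 x⟩, (x.1 (0, v)).2, ?_⟩) fun x y e b => ?_).trans (Nat.mul_le_mul_left _ ?_)
  · have h2 := x.2.1 (0, v)
    rw [osum_apply, osum_apply, map_zero, zero_add] at h2
    exact eq_sub_of_add_eq' h2
  · obtain ⟨f, rfl⟩ := hv b
    have h2 : x.1 (0, v) = y.1 (0, v) := Prod.ext (congrArg (·.1.1) e) (congrArg (·.2.1) e)
    have h3 : ∀ d : (Y × X) ≃ₗ[K] (Y × X), d * w.prodCongr u = w.prodCongr u * d →
        d (0, aeval (u : End K X) f v) = aeval (w.prodCongr u : End K (Y × X)) f (d (0, v)) := fun d hd => by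
      refine Eq.trans ?_ (aeval_map (u := (w.prodCongr u : End K (Y × X))) d.toLinearMap
        (fun z => (LinearEquiv.congr_fun hd z).symm) f _).symm
      rw [aeval_prod, map_zero]
      rfl
    rw [h3 _ x.2.2, h3 _ y.2.2, h2]
  · have := Fintype.ofFinite (LinearMap.ker (aeval (w : End K Y) p))
    rw [Nat.card_sigma]
    refine (Finset.sum_le_card_nsmul _ _ M fun a _ => hM _).trans (Nat.mul_le_mul_right _ ?_)
    rw [Finset.card_univ, card_eq_pow_finrank (K := K)]
    exact Nat.pow_le_pow_right Fintype.card_pos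
      ((CycV.ker_le hw (LinearMap.charpoly_monic _)).trans (LinearMap.charpoly_natDegree _).le)

end Cfsg.Agent.N2C.FrO
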