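import Cfsg.Agent.N2.Cl.FrO.Num

/-!
# N2 (S3519), orthogonal groups, frames: the elements (helper76)

`gt_even`, `gt_spc`, `gt_odd` : the monomial group is good, given a suitable isometry of one block.
-/

set_option autoImplicit false
set_option linter.unusedSectionVars false

namespace Cfsg.Agent.N2C.FrO

open Module QuadraticMap Cfsg.Agent.N2C.Cyc
open Equiv (Perm)
open Polynomial (aeval)
open Cfsg.Agent.LieClassical.OrthCore

variable {K X : Type} [Field K] [Fintype K] [AddCommGroup X] [Module K X] [Finite X] {R : QuadraticForm K X}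
  {u : X ≃ₗ[K] X} {ι : Type} [Fintype ι] [DecidableEq ι] {t r j : ℕ}

variable (R t) in
/-- the goal for `t` blocks -/
def GT : Prop := ∃ (ι : Type) (_ : Fintype ι) (_ : DecidableEq ι), Fintype.card ι = t ∧ GW ι R

variable (R u) in
/-- the generic element in even dimension -/
structure Gen : Prop where
  e : u ∈ E2 R
  cy : CycV (u : End K X)
  fr : ∀ x, u (u x) = x → x = 0

theorem card_sum (ι : Type) [Fintype ι] : Fintype.card (ι ⊕ Fin 1) = Fintype.card ι + 1 := by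
  rw [Fintype.card_sum, Fintype.card_fin]

theorem gain [Nontrivial X] (hR : Nondeg R) {a : (ι → X) ≃ₗ[K] (ι → X)} (ha : a ∈ O (pq ι R)) {p n c z : ℕ} (hp : p.Prime)
    (ho : orderOf a = n) (hc : cQ (pq ι R) a ≤ c) {t m q : ℕ} (ht : Fintype.card ι = t) (hm : finrank K X = m)
    (hq : Fintype.card K = q) (h : t < 2 * p ∧ n.gcd t.factorial ∣ p ∧ bO m q < n ∧ c < (z + 1) * p) : fW R ⟨a, ha⟩ ≤ z := by
  subst ht hm hq ho
  rw [← Subgroup.orderOf_mk a ha] at h
  exact Nat.le_of_lt_succ (Nat.lt_of_mul_lt_mul_right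
    (((fW_gain _ hp h.1 h.2.1 ((card_O_bO hR).trans_lt h.2.2.1)).trans hc).trans_lt h.2.2.2))

/-- one more block with trivial action -/
theorem cQ_ext (hR : Nondeg R) {a : (ι → X) ≃ₗ[K] (ι → X)} (h : ∀ v, a v = v → v = 0) :
    cQ (pq (ι ⊕ Fin 1) R) (sm R a 1) ≤ cQ (pq ι R) a * bO (finrank K X) (Fintype.card K) := by
  refine cQ_sm.trans ((cQ_mul (nondeg_pq hR) (Polynomial.X - 1) (fun v hv => h v (sub_eq_zero.1 (by simpa using hv)))
    fun b => by simp).trans (Nat.mul_le_mul_left _ ((cQ_le_O _ _).trans ?_)))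
  have h1 := card_O_bO (nondeg_pq (ι := Fin 1) hR)
  rwa [finrank_pq, Fintype.card_fin, one_mul] at h1

theorem cQ_cyc_one (hR : Nondeg R) (hm : finrank K X = 2 * j) (hu : u ∈ O R) (hc : CycV (u : End K X))
    (h : ∀ x, u (u x) = x → x = 0) (r : ℕ) : cQ (pq _ R) (cyc r u) ≤ (Fintype.card K + 1) ^ ((r + 1) * j) := by
  have h1 := cQ_one (nondeg_pq hR) (Wr_le_O (cyc_mem (r := r) hu)) (cyc_cycV hc) (cyc_fr h)
  rwa [finrank_pq, Fintype.card_fin, hm, mul_left_comm, Nat.mul_div_cancel_left _ two_pos] at h1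

theorem gt_even (hR : Nondeg R) (hm : finrank K X = 2 * j) (g : Gen R u) (h3 : j = 1 → Fintype.card K = 2 → u ^ 3 = 1)
    (ht : 3 ≤ t) (h7 : 7 ≤ t * (2 * j)) : GT R t := by
  have hq := two_le_q K
  have hj : 1 ≤ j := Nat.pos_of_ne_zero fun k => by rw [k] at h7; omega
  have hu := E2_le_O g.e
  have h1 := cQ_cyc_one hR hm hu g.cy g.fr
  obtain ⟨s, rfl | rfl⟩ := Nat.even_or_odd' t
  swap
  · refine ⟨Fin (2 * s + 1), _, _, Fintype.card_fin _, good_one hR (by omega) (by rwa [Fintype.card_fin, hm]) (cyc_mem hu)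
      (cyc_E2 (even_two_mul s) g.e) ((fW_le _).trans (h1 _)) ?_⟩
    rw [Fintype.card_fin, hm]
    rcases hj.eq_or_lt with rfl | hj
    · exact (nm_two (s := 1) hq one_le_two (by omega)).mono (by rw [mul_one, one_mul])
    · exact (nm_even (δ := 0) hq hj zero_le_one ht).mono (by rw [pow_zero, mul_one])
  obtain ⟨s, rfl⟩ := Nat.exists_eq_add_of_le' (show 1 ≤ s by omega)
  have h2 : Fintype.card (Fin (2 * s + 1) ⊕ Fin 1) = 2 * (s + 1) := by rw [card_sum, Fintype.card_fin]; ring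
  have h4 := cQ_ext hR (a := cyc (2 * s) u) fun v hv => cyc_fr g.fr v (by rw [hv, hv])
  have h5 := fun z => good_one (z := z) hR (by omega) (by rwa [h2, hm]) (sm_mem (cyc_mem hu) (one_mem _))
    (sm_E2 (cyc_E2 (even_two_mul s) g.e) (one_mem _))
  rw [h2, hm] at h5
  rw [hm] at h4
  refine ⟨_, _, inferInstance, h2, ?_⟩
  by_cases h6 : j = 1 ∧ s = 1 ∧ Fintype.card K = 2
  · obtain ⟨rfl, rfl, h6⟩ := h6
    have : Nontrivial X := Module.nontrivial_of_finrank_pos (R := K) (by omega)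
    have h8 : ∀ v, (cyc 2 u ^ 3) v = v → v = 0 := fun v hv => funext fun i => g.fr _ (by
      have h8 : u (v i) = v i := congrFun ((LinearEquiv.congr_fun (cyc_pow 2 u) v).symm.trans hv) i
      rw [h8, h8])
    have h9 : cyc 2 u ^ 9 = 1 := cyc_pow_mul (h3 rfl h6)
    have : Fact (Nat.Prime 3) := ⟨Nat.prime_three⟩
    have h10 : orderOf (sm R (cyc 2 u) (1 : (Fin 1 → X) ≃ₗ[K] (Fin 1 → X))) = 3 ^ (1 + 1) :=
      orderOf_eq_prime_pow (fun k => by
        obtain ⟨v, hv⟩ := exists_ne (0 : Fin 3 → X)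
        exact hv (h8 v (LinearEquiv.congr_fun (sm_eq_one ((sm_pow 3).symm.trans k)) v)))
        ((sm_pow 9).trans (by rw [h9, one_pow, sm_one]))
    have h12 := cQ_nine (nondeg_pq hR) h6 (by rw [finrank_pq, hm]; rfl) (Wr_le_O (cyc_mem hu)) (cyc_cycV g.cy) h9 h8
    rw [h6] at h4 h5
    exact h5 18 (gain hR _ Nat.prime_three h10 (h4.trans (Nat.mul_le_mul_right _ h12)) h2 hm h6 (by decide)) nm_4
  refine h5 _ ((fW_le _).trans (h4.trans (Nat.mul_le_mul_right _ (h1 _)))) ?_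
  rcases hj.eq_or_lt with rfl | hj
  · exact (nm_two (s := 2) hq le_rfl (by omega)).mono (le_of_eq (by rw [bO, if_pos rfl]; ring))
  · exact (nm_even (δ := 1) hq hj le_rfl (by omega)).mono (by
      rw [pow_one]
      exact Nat.mul_le_mul_right _ (Nat.pow_le_pow_right (Nat.succ_pos _) (Nat.mul_le_mul_right _ (by omega))))

/-! ### rotations of order four -/

theorem neg_fix (h2 : (2 : K) ≠ 0) {x : X} (h : -x = x) : x = 0 :=
  (smul_eq_zero.1 (show (2 : K) • x = 0 by rw [two_smul]; exact add_eq_zero_iff_neg_eq.2 h)).resolve_left h2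

theorem pm_E2 (h2 : (2 : K) ≠ 0) (hu : u ∈ O R) (h : ∀ x, u (u x) = -x) (π : Perm ι) : pm K X π ∈ E2 (pq ι R) := by
  refine ((Subgroup.closure_le ((E2 (pq ι R)).comap (pm K X))).2 ?_) (Equiv.Perm.closure_isSwap.ge trivial)
  rintro _ ⟨i, k, hik, rfl⟩
  let f : Emb ((2 : K) • R) (pq ι R) := ⟨LinearMap.single K (fun _ => X) i - LinearMap.single K (fun _ => X) k,
    (2 : K)⁻¹ • ((LinearMap.proj i : (ι → X) →ₗ[K] X) - (LinearMap.proj k : (ι → X) →ₗ[K] X)), fun x => by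
      simp [hik, hik.symm, ← two_smul K x, smul_smul, h2], fun x => by
      have h1 := Q_add (Q := pq ι R) (Pi.single i x) (-Pi.single k x)
      rw [QuadraticMap.map_neg, pq_single, pq_single, polar_neg_right, polar_single, Pi.single_eq_of_ne hik,
        polar_zero_right, neg_zero, add_zero, ← sub_eq_add_neg, ← two_mul] at h1
      exact h1, fun x v => by
      change polar (pq ι R) (Pi.single i x - Pi.single k x) v = polar ((2 : K) • R) x ((2 : K)⁻¹ • (v i - v k))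
      rw [polar_sub_left, polar_single, polar_single, FunLike.coe_smul, polar_smul, polar_smul_right, polar_sub_right, smul_smul,
        mul_inv_cancel₀ h2, one_smul]⟩
  have h1 : pm K X (Equiv.swap i k) = f.up (u * u) := LinearEquiv.ext fun v => funext fun l => by
    have h1 : -(2 : K)⁻¹ • (v i - v k) - (2 : K)⁻¹ • (v i - v k) = v k - v i := by
      rw [← sub_smul, ← neg_add', ← two_mul, mul_inv_cancel₀ h2, neg_one_smul, neg_sub]
    change v (Equiv.swap i k l) = v l + ((Pi.single i (u (u _) - _) : ι → X) l - (Pi.single k (u (u _) - _) : ι → X) l)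
    erw [h, ← neg_smul, h1]
    by_cases h3 : l = i
    · simp [h3, hik]
    by_cases h4 : l = k
    · simp [h4, hik.symm]
    · simp [h3, h4, Equiv.swap_apply_of_ne_of_ne]
  rw [SetLike.mem_coe, Subgroup.mem_comap, h1]
  exact f.up_E2 (sq_E2 fun x => congrArg ((2 : K) • ·) (hu x))

theorem pair_E2 (hu : u ∈ O R) (i k : ι) : bs (Pi.mulSingle i u * Pi.mulSingle k u) ∈ E2 (pq ι R) := by
  have h1 : pm K X (Equiv.swap i k) * bs (Pi.mulSingle i u) = bs (Pi.mulSingle k u) * pm K X (Equiv.swap i k) :=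
    (mon_mul _ _ _ _).trans (congrArg (mon _) (funext fun l => by simp [Pi.mulSingle_apply, Equiv.swap_apply_eq_iff]))
  have h2 : bs (Pi.mulSingle i u) ∈ O (pq ι R) := Wr_le_O ⟨1, _, single_mem hu i, rfl⟩
  have h3 : pm K X (Equiv.swap i k) ∈ O (pq ι R) := Wr_le_O (pm_mem _)
  rw [map_mul, ← mul_inv_eq_iff_eq_mul.2 h1, show ∀ x s : (ι → X) ≃ₗ[K] (ι → X),
    x * (s * x * s⁻¹) = x * s * (x * s) * (s * s)⁻¹ from fun _ _ => by group]
  exact mul_mem (sq_E2 (mul_mem h2 h3)) (inv_mem (sq_E2 h3))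

theorem three_le (h2 : (2 : K) ≠ 0) : 3 ≤ Fintype.card K ∧ Fintype.card K ≠ 4 := by
  have h1 := two_le_q K
  have h4 := FiniteField.cast_card_eq_zero K
  refine ⟨not_lt.1 fun h3 => h2 ?_, fun h3 => mul_ne_zero h2 h2 ?_⟩
  · rw [show Fintype.card K = 2 by omega] at h4
    exact_mod_cast h4
  · rw [h3] at h4
    have h5 : (4 : K) = 0 := by exact_mod_cast h4
    linear_combination h5

theorem gt_spc (hR : Nondeg R) (h2 : (2 : K) ≠ 0) (hm : finrank K X = 2 * 1) (hu : u ∈ O R) (hc : CycV (u : End K X))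
    (h : ∀ x, u (u x) = -x) (ht : 4 ≤ t) : GT R t := by
  have hq := (three_le h2).1
  have h0 : ∀ x, u (u x) = x → x = 0 := fun x hx => neg_fix h2 ((h x).symm.trans hx)
  have h1 := cQ_cyc_one hR hm hu hc h0
  have h3 : ∀ s, sm R (cyc s u) (cyc 0 u) ∈ E2 (pq _ R) := fun s => by
    rw [cyc, cyc, sm_mon, mon_eq, show Sum.elim (Pi.mulSingle 0 u) (Pi.mulSingle 0 u) =
      (Pi.mulSingle (.inl 0) u * Pi.mulSingle (.inr 0) u : Fin (s + 1) ⊕ Fin (0 + 1) → X ≃ₗ[K] X) by
        rw [← Sum.elim_mulSingle_one, ← Sum.elim_one_mulSingle, ← Sum.elim_mul_mul, mul_one, one_mul]]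
    exact mul_mem (pair_E2 hu _ _) (pm_E2 h2 hu h _)
  have h4 : ∀ s, cQ (pq _ R) (sm R (cyc (2 * s + 1) u) (cyc 0 u)) ≤ (Fintype.card K + 1) ^ (2 * s + 3) := fun s => by
    refine cQ_sm.trans ((cQ_mul (nondeg_pq hR) (Polynomial.X ^ 2 + 1) (fun v hv => ?_) fun b => ?_).trans
      ((Nat.mul_le_mul (h1 _) (h1 0)).trans (le_of_eq (by ring))))
    · have h4 : cyc (2 * s + 1) u (cyc (2 * s + 1) u v) = -v := eq_neg_of_add_eq_zero_left (by simpa [pow_two] using hv)
      have h5 := fix_pow (g := cyc (2 * s + 1) u ^ 4) (v := v) (by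
        change cyc _ u (cyc _ u (cyc _ u (cyc _ u v))) = v
        rw [h4, map_neg, map_neg, h4, neg_neg]) (s + 1)
      rw [← pow_mul, show 4 * (s + 1) = (2 * s + 1 + 1) * 2 by ring, pow_mul, cyc_pow] at h5
      exact funext fun i => neg_fix h2 ((h _).symm.trans (congrFun h5 i))
    · have h4 : cyc 0 u (cyc 0 u b) = -b := by
        rw [← pow_one (cyc 0 u), show cyc 0 u ^ 1 = _ from cyc_pow 0 u]
        exact funext fun i => h _
      simp [pow_two, h4]
  have h5 := fun s => sm_mem (cyc_mem (r := s) hu) (cyc_mem (r := 0) hu)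
  obtain ⟨s, rfl | rfl⟩ := Nat.even_or_odd' t
  · obtain ⟨s, rfl⟩ := Nat.exists_eq_add_of_le' (show 2 ≤ s by omega)
    have h6 : Fintype.card ((Fin (2 * s + 1 + 1) ⊕ Fin 1) ⊕ Fin 1) = 2 * (s + 2) := by
      rw [card_sum, card_sum, Fintype.card_fin]; ring
    refine ⟨_, _, _, h6, good_one hR (by omega) (by rw [h6, hm]; omega) (sm_mem (h5 _) (one_mem _))
      (sm_E2 (h3 _) (one_mem _)) ((fW_le _).trans ((cQ_ext hR fun v hv => ?_).trans (Nat.mul_le_mul_right _ (h4 s)))) ?_⟩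
    · obtain ⟨v, rfl⟩ := (se K X _ _).surjective v
      have h7 := Prod.mk.inj ((se K X _ _).injective ((sm_se v).symm.trans hv))
      rw [show v = 0 from Prod.ext (cyc_fr h0 _ (by rw [h7.1, h7.1])) (cyc_fr h0 _ (by rw [h7.2, h7.2])), map_zero]
    · rw [h6, hm]
      exact (nm_two (s := 2) (by omega) le_rfl (by omega)).mono (le_of_eq (by rw [bO, if_pos rfl]; ring))
  · obtain ⟨s, rfl⟩ := Nat.exists_eq_add_of_le' (show 1 ≤ s by omega)
    have h6 : Fintype.card (Fin (2 * s + 1 + 1) ⊕ Fin 1) = 2 * (s + 1) + 1 := by rw [card_sum, Fintype.card_fin]; ring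
    refine ⟨_, _, _, h6, good_one hR (by omega) (by rw [h6, hm]; omega) (h5 _) (h3 _) ((fW_le _).trans (h4 s)) ?_⟩
    rw [h6, hm]
    exact (nm_two (s := 1) (by omega) one_le_two (by omega)).mono (le_of_eq (by ring))

/-! ### odd dimension -/

theorem card_val (hR : Nondeg R) (hm : finrank K X = 1) (c : K) : Nat.card {b : X // R b = c} ≤ 2 := by
  obtain ⟨x, hx, h⟩ := finrank_eq_one_iff'.1 hm
  have h1 : R x ≠ 0 := fun k => hx (hR x fun y => by
    obtain ⟨a, rfl⟩ := h y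
    rw [polar_smul_right, polar_self_of_sing k, smul_zero])
  rcases isEmpty_or_nonempty {b : X // R b = c} with _ | ⟨⟨y, rfl⟩⟩
  · simp
  obtain ⟨a, rfl⟩ := h y
  refine (Set.ncard_le_ncard (t := {a • x, -a • x}) (fun z hz => ?_)).trans
    ((Set.ncard_insert_le _ _).trans (by rw [Set.ncard_singleton]))
  obtain ⟨b, rfl⟩ := h z
  have h2 : R (b • x) = R (a • x) := hz
  rw [QuadraticMap.map_smul, QuadraticMap.map_smul, smul_eq_mul, smul_eq_mul] at h2
  exact (mul_self_eq_mul_self_iff.1 (mul_right_cancel₀ h1 h2)).imp (congrArg (· • x)) (congrArg (· • x))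

theorem cyc_ne [Nontrivial X] (hr : r ≠ 0) : cyc r u ≠ 1 := fun k => by
  obtain ⟨r, rfl⟩ := Nat.exists_eq_succ_of_ne_zero hr
  exact zero_ne_one ((Equiv.congr_fun (mon_inj (k.trans mon_one.symm)).1 0).symm.trans finRotate_apply_zero)

theorem gt_odd (hR : Nondeg R) (hm : finrank K X = 2 * j + 1) (hu : u ∈ O R) (hc : CycV (u : End K X)) {N : ℕ}
    (hN : Odd N) (h : u ^ N = 1) (h0 : j = 0 → N = 1) (ht : 3 ≤ t) (h7 : 7 ≤ t * (2 * j + 1)) : GT R t := by
  have h2 := two_ne_of_odd hR ⟨j, hm⟩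
  have hq := three_le h2
  have : Nontrivial X := Module.nontrivial_of_finrank_pos (R := K) (by omega)
  have : Fact (Nat.Prime 7) := ⟨Nat.prime_seven⟩
  have h3 : ∀ s, Odd ((2 * s + 1) * N) := fun s => (odd_two_mul_add_one s).mul hN
  have h1 : ∀ s, cQ (pq _ R) (cyc (2 * s) u) ≤ 2 * (Fintype.card K + 1) ^ (2 * s * j + s + j) := fun s => by
    have h1 := cQ_odd (nondeg_pq hR) h2 (Wr_le_O (cyc_mem (r := 2 * s) hu)) (cyc_cycV hc) (h3 s) (cyc_pow_mul h)
    rwa [finrank_pq, Fintype.card_fin, hm, show (2 * s + 1) * (2 * j + 1) = 1 + 2 * (2 * s * j + s + j) by ring,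
      Nat.add_mul_div_left _ _ two_pos, show 1 / 2 = 0 from rfl, zero_add] at h1
  obtain ⟨s, rfl | rfl⟩ := Nat.even_or_odd' t
  swap
  · have h5 := fun z => good_two (z := z) hR h2 (by rwa [Fintype.card_fin, hm]) (cyc_mem (r := 2 * s) hu)
      (odd_E2 (Wr_le_O (cyc_mem hu)) (h3 s) (cyc_pow_mul h))
    rw [Fintype.card_fin, hm] at h5
    refine ⟨_, _, inferInstance, Fintype.card_fin _, ?_⟩
    by_cases h6 : j = 0 ∧ s = 3 ∧ Fintype.card K = 3
    · obtain ⟨rfl, rfl, h6⟩ := h6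
      obtain rfl := h0 rfl
      have h8 : cyc (2 * 3) u ^ 7 = 1 := cyc_pow_mul (r := 2 * 3) h
      rw [h6] at h1 h5
      exact h5 18 (gain hR _ Nat.prime_seven (orderOf_eq_prime h8 (cyc_ne (by decide))) (h1 3) (Fintype.card_fin _) hm h6
        (by decide)) nm_7
    refine h5 _ ((fW_le _).trans (h1 s)) ?_
    rcases Nat.eq_zero_or_pos j with rfl | hj
    · exact (nm_one_odd hq.1 (by omega) (by omega)).mono (le_of_eq (by ring))
    · exact (nm_odd (δ := 0) (a := 2 * s * j + s + j) hq.1 hj zero_le_one ht (le_of_eq (by ring))).mono (le_of_eq (by ring))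
  obtain ⟨s, rfl⟩ := Nat.exists_eq_add_of_le' (show 1 ≤ s by omega)
  have h5 : Fintype.card (Fin (2 * s + 1) ⊕ Fin 1) = 2 * (s + 1) := by rw [card_sum, Fintype.card_fin]; ring
  have h6 := sm_mem (cyc_mem (r := 2 * s) hu) (cyc_mem (r := 0) hu)
  have h8 : sm R (cyc (2 * s) u) (cyc 0 u) ^ ((2 * s + 1) * N) = 1 := by
    have h8 := cyc_pow_mul (r := 0) h
    rw [show (0 + 1) * N = N from one_mul N] at h8
    rw [sm_pow, cyc_pow_mul h, pow_mul', h8, one_pow, sm_one]
  have h9 := fun z => good_two (z := z) hR h2 (by rwa [h5, hm]) h6 (odd_E2 (Wr_le_O h6) (h3 s) h8)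
  have h10 : finrank K (Fin 1 → X) = 2 * j + 1 := by rw [finrank_pq, Fintype.card_fin, one_mul, hm]
  have h11 := fun M hM => cQ_sm.trans ((cQ_cyc (M := M) (nondeg_pq (ι := Fin 1) hR) (cyc_cycV (r := 2 * s) hc)
    (cyc_cycV (r := 0) hc) hM).trans (Nat.mul_le_mul_right _ (h1 s)))
  rw [h5, hm] at h9
  rw [h10] at h11
  refine ⟨_, _, inferInstance, h5, ?_⟩
  rcases Nat.eq_zero_or_pos j with rfl | hj
  · have h12 := h11 2 (card_val (nondeg_pq hR) h10)
    by_cases h13 : s = 3 ∧ Fintype.card K = 3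
    · obtain ⟨rfl, h13⟩ := h13
      obtain rfl := h0 rfl
      rw [h13] at h9 h12
      exact h9 109 (gain hR _ Nat.prime_seven (orderOf_eq_prime (p := 7) h8 fun k => cyc_ne (by decide) (sm_eq_one k)) h12 h5
        hm h13 (by decide +kernel)) nm_8
    · exact h9 _ ((fW_le _).trans h12) ((nm_one_even (a := s) hq.1 (by omega) (by omega)).mono (le_of_eq (by ring)))
  · refine h9 _ ((fW_le _).trans (h11 (Fintype.card K ^ (2 * j + 1)) fun c => ?_))
      ((nm_odd (δ := 1) (a := 2 * s * j + s + j) hq.1 hj le_rfl (by omega) (le_of_eq (by ring))).mono (le_of_eq (by ring)))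
    rw [← h10, ← card_V]
    exact Finite.card_subtype_le _

end Cfsg.Agent.N2C.FrO
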