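import Cfsg.Agent.N2.Cl.FrO.Elt
import Cfsg.Agent.N2.Cl.FixO.Blk

/-!
# N2 (S3519), orthogonal groups, frames: the models of the blocks of even dimension (helper76)

`mo` : a model for the dimension `2j` and the sign `ε`, except for the hyperbolic planes over the fields with at most three
elements; `four` : an indecomposable element of `Ω₄⁺(2)`, `Ω₄⁺(3)`.
-/

set_option autoImplicit false
set_option linter.unusedSectionVars false

namespace Cfsg.Agent.N2C.FrO

open Module QuadraticMap Cfsg.Agent.N2C.Cyc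
open Polynomial (aeval)
open Cfsg.Agent.LieClassical.OrthCore
open Cfsg.Agent.H182.Sign (Sg prodForm prodForm_apply)
open Cfsg.Agent.H530.CJ (tq dw Tor dw_apply dw_mem_O)
open Cfsg.Agent.N2C.FixO (Bl bl_dw)

variable {K X L : Type} [Field K] [Fintype K] [AddCommGroup X] [Module K X] [Field L] [Finite L] [Algebra K L] {j : ℕ}

variable (K j) in
/-- a model -/
def Mo (ε : ℤ) : Prop := ∃ (X : Type) (_ : AddCommGroup X) (_ : Module K X) (_ : Finite X) (R : QuadraticForm K X),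
  Sg R j ε ∧ ∀ t, 3 ≤ t → 7 ≤ t * (2 * j) → GT R t

theorem aeval_mul {g : End K X} (φ : L →ₗ[K] X) {t : L} (h : ∀ x, g (φ x) = φ (t * x)) (f : Polynomial K) (x : L) :
    aeval g f (φ x) = φ (aeval t f * x) :=
  (aeval_map (u := Algebra.lmul K L t) φ h f x).trans (by rw [Polynomial.aeval_algHom_apply]; rfl)

theorem mem_orb {g : End K X} (φ : L →ₗ[K] X) {t : L} (h : ∀ x, g (φ x) = φ (t * x)) (ht : Algebra.adjoin K {t} = ⊤)
    (x : L) : φ x ∈ orb g (φ 1) := by
  have h1 : x ∈ Algebra.adjoin K {t} := ht ▸ trivial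
  rw [Algebra.adjoin_singleton_eq_range_aeval] at h1
  exact h1.imp fun f hf => (aeval_mul φ h f 1).trans (congrArg φ ((mul_one _).trans hf))

theorem neg_one_of {t : L} (h : orderOf t = 4) : t * t = -1 :=
  (mul_self_eq_one_iff.1 (by rw [← pow_two, ← pow_two, ← pow_mul, show 2 * 2 = orderOf t from h.symm, pow_orderOf_eq_one])).resolve_left
    (pow_two t ▸ pow_ne_one_of_lt_orderOf two_ne_zero (by omega))

theorem two_ne_of_card (h : Odd (Fintype.card K)) : (2 : K) ≠ 0 := fun k => by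
  obtain ⟨m, hm⟩ := h
  have h1 := FiniteField.cast_card_eq_zero K
  rw [hm] at h1
  push_cast at h1
  rw [k, zero_mul, zero_add] at h1
  exact one_ne_zero h1

theorem mo_minus (hj : j ≠ 0) : Mo K j (-1) := by
  obtain ⟨L, _, _, _, R, u, hR, ho, hu⟩ := H530.OZ.exists_torusM K hj
  let s : FrSp.Sg K L j := ⟨FiniteField.frobeniusAlgEquivOfAlgebraic K L ^ j, u, by omega, hR.dim, fun x => by
    rw [AlgEquiv.coe_pow, FiniteField.coe_frobeniusAlgEquivOfAlgebraic_iterate], ho⟩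
  let g := H93.CJ.mulL K u s.lam_ne
  have h1 : ∀ (n : ℕ) x, (g ^ n) x = u ^ n * x := fun n x => by
    induction n with
    | zero => rw [pow_zero, pow_zero, one_mul]; rfl
    | succ n ih => rw [pow_succ', LinearEquiv.mul_apply, ih, pow_succ', mul_assoc]; rfl
  have h2 : ∀ n : ℕ, n = 1 ∨ (n = 2 ∧ 4 ≤ Fintype.card K ^ j) → CycV ((g ^ n : L ≃ₗ[K] L) : End K L) := fun n hn =>
    ⟨1, mem_orb LinearMap.id (h1 n) (s.gen hn)⟩
  have h3 : ∀ n : ℕ, n ≠ 0 → n + n ≤ Fintype.card K ^ j → ∀ x, (g ^ n) ((g ^ n) x) = x → x = 0 := fun n h0 hn x k => by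
    rw [h1, h1, ← mul_assoc, ← pow_add] at k
    exact (mul_left_eq_self₀.1 k).resolve_left (s.pow_ne (by omega) hn)
  have hg : g ∈ O R := hu
  have h4 := s.two_le
  refine ⟨L, _, _, inferInstance, R, hR, fun t ht h7 => ?_⟩
  by_cases h5 : 4 ≤ Fintype.card K ^ j
  · exact gt_even hR.nondeg hR.dim ⟨pow_two g ▸ sq_E2 hg, h2 2 (Or.inr ⟨rfl, h5⟩), h3 2 two_ne_zero h5⟩
      (fun k k' => by rw [k, k'] at h5; omega) ht h7
  by_cases h6 : Fintype.card K ^ j = 2
  · have h8 : (g ^ 1) ^ 3 = 1 := LinearEquiv.ext fun x => by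
      rw [pow_one, h1, show 3 = orderOf u by omega, pow_orderOf_eq_one, one_mul]; rfl
    exact gt_even hR.nondeg hR.dim ⟨odd_E2 (pow_mem hg 1) (by decide) h8, h2 1 (Or.inl rfl), h3 1 one_ne_zero h4⟩
      (fun _ _ => h8) ht h7
  obtain ⟨h8, rfl⟩ := (Nat.prime_three.pow_eq_iff).1 (show Fintype.card K ^ j = 3 by omega)
  refine gt_spc hR.nondeg (two_ne_of_card (by rw [h8]; decide)) hR.dim (pow_mem hg 1) (h2 1 (Or.inl rfl)) (fun x => ?_)
    (by omega)
  rw [h1, h1, pow_one, ← mul_assoc, neg_one_of (by rw [ho, h8]; rfl), neg_one_mul]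

/-! ### the plus type -/

theorem tor_pow (hL : finrank K L = j + 1) {g : Lˣ} (hg : orderOf g = Fintype.card K ^ (j + 1) - 1) {d : ℕ} (h0 : 0 < d)
    (hd : d * (Fintype.card K ^ j + 1) < Fintype.card K ^ (j + 1) - 1) : Tor K ((g ^ d : Lˣ) : L) := by
  have h1 : ∀ i, 0 < i → i ≤ Fintype.card K ^ j + 1 → ((g ^ d : Lˣ) : L) ^ i ≠ 1 := fun i h2 h3 => by
    rw [Units.val_pow_eq_pow_val, ← pow_mul]
    refine pow_ne_one_of_lt_orderOf (Nat.mul_pos h0 h2).ne' ?_
    rw [orderOf_units, hg]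
    exact (Nat.mul_le_mul_left d h3).trans_lt hd
  have h2 : ∀ i, i < finrank K L → Fintype.card K ^ i ≤ Fintype.card K ^ j := fun i hi =>
    Nat.pow_le_pow_right Fintype.card_pos (by omega)
  refine ⟨Units.ne_zero _, H530.OZ.adjoin_eq_top (Units.ne_zero _) rfl fun i h3 h4 h5 => ?_, fun σ hσ => ?_⟩
  · rw [Nat.card_eq_fintype_card] at h5
    have h6 := h2 i h4
    have h7 := Nat.one_lt_pow h3.ne' (two_le_q K)
    exact h1 _ (by omega) (by omega) (orderOf_dvd_iff_pow_eq_one.1 h5)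
  · obtain ⟨i, rfl⟩ := (FiniteField.bijective_frobeniusAlgEquivOfAlgebraic_pow K L).2 σ
    rw [AlgEquiv.coe_pow, FiniteField.coe_frobeniusAlgEquivOfAlgebraic_iterate] at hσ
    refine h1 (Fintype.card K ^ i.1 + 1) (Nat.succ_pos _) (Nat.succ_le_succ (h2 i i.2)) ?_
    rw [pow_succ, show ((g ^ d : Lˣ) : L) ^ Fintype.card K ^ i.1 = _ from hσ, inv_mul_cancel₀ (Units.ne_zero _)]

theorem cyc_dw {t : Lˣ} (h : Tor K (t : L)) : CycV ((dw t : (L × L) ≃ₗ[K] (L × L)) : End K (L × L)) := by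
  have : Module.Finite K L := Module.Finite.of_finite
  have h1 : ∀ x, ((dw t : (L × L) ≃ₗ[K] (L × L)) : End K (L × L)) (LinearMap.inl K L L x) = LinearMap.inl K L L (t * x) :=
    fun x => (dw_apply t _).trans (Prod.ext rfl (mul_zero _))
  have h2 : ∀ x, ((dw t : (L × L) ≃ₗ[K] (L × L)) : End K (L × L)) (LinearMap.inr K L L x) =
      LinearMap.inr K L L ((t : L)⁻¹ * x) := fun x =>
    (dw_apply t _).trans (Prod.ext (mul_zero _) (by rw [Units.val_inv_eq_inv_val]; rfl))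
  have h3 : Algebra.adjoin K {(t : L)⁻¹} = ⊤ := top_unique (h.gen.ge.trans (Algebra.adjoin_le (Set.singleton_subset_iff.2 (by
    have h3 := (Algebra.adjoin K {(t : L)⁻¹}).inv_mem_of_algebraic (x := ⟨_, Algebra.self_mem_adjoin_singleton K _⟩)
      (Algebra.IsAlgebraic.isAlgebraic _)
    rwa [inv_inv] at h3))))
  refine cycV_of_two (v := LinearMap.inr K L L 1) (w := LinearMap.inl K L L 1) (f := minpoly K (t : L)⁻¹)
    (f' := minpoly K (t : L)) ((minpoly.irreducible (IsIntegral.of_finite K _)).coprime_iff_not_dvd.2 fun ⟨f, hf⟩ => ?_)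
    (by rw [aeval_mul _ h2, minpoly.aeval, zero_mul, map_zero]) (by rw [aeval_mul _ h1, minpoly.aeval, zero_mul, map_zero])
    (eq_top_iff.2 fun v _ => ?_)
  · obtain ⟨σ, hσ⟩ := minpoly.exists_algEquiv_of_root' (Algebra.IsAlgebraic.isAlgebraic (t : L))
      (show aeval (t : L)⁻¹ (minpoly K (t : L)) = 0 by rw [hf, map_mul, minpoly.aeval, zero_mul])
    exact h.inv σ hσ
  · rw [show v = LinearMap.inr K L L v.2 + LinearMap.inl K L L v.1 by simp]
    exact Submodule.add_mem_sup (mem_orb _ h2 h3 _) (mem_orb _ h1 h.gen _)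

/-! ### dimension four -/

variable (K) in
/-- two hyperbolic planes -/
noncomputable def R4 : QuadraticForm K ((K × K) × (K × K)) := prodForm (tq K K) (tq K K)

theorem R4_apply (v : (K × K) × (K × K)) : R4 K v = v.1.1 * v.1.2 + v.2.1 * v.2.2 := by
  simp [R4, prodForm_apply, H530.CJ.tq_apply]

theorem R4_polar (v w : (K × K) × (K × K)) :
    polar (R4 K) v w = v.1.1 * w.1.2 + v.1.2 * w.1.1 + v.2.1 * w.2.2 + v.2.2 * w.2.1 := by
  simp only [polar, R4_apply, Prod.fst_add, Prod.snd_add]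
  ring

variable (K) in
theorem sg_R4 : Sg (R4 K) 2 1 := (H530.OZ.sg_tq K K (finrank_self K)).prod (H530.OZ.sg_tq K K (finrank_self K))

variable (K) in
theorem exists_u4 : ∃ u ∈ E2 (R4 K), ∀ v, u v = ((2 * v.1.1 - v.1.2 - v.2.1 - 2 * v.2.2, v.1.2 + v.2.2),
    (-v.1.1 + v.1.2 + v.2.1 + v.2.2, v.1.2 + 2 * v.2.2)) := by
  refine ⟨siegel (R4 K) ((1, 0), (0, 0)) ((0, 0), (0, 1)) (by simp [R4_apply]) (by simp [R4_polar]) *
    siegel (R4 K) ((0, 0), (1, 0)) ((0, 1), (0, 0)) (by simp [R4_apply]) (by simp [R4_polar]) *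
    siegel (R4 K) ((1, 0), (0, 0)) ((0, 0), (1, 0)) (by simp [R4_apply]) (by simp [R4_polar]),
    E_le_E2 (mul_mem (mul_mem (siegel_mem_E _ _) (siegel_mem_E _ _)) (siegel_mem_E _ _)), fun v => ?_⟩
  simp only [LinearEquiv.mul_apply, siegel_apply, R4_polar, R4_apply]
  ext <;> simp <;> ring

theorem orb_pow [Finite X] {u : End K X} {p : Polynomial K} (hp : Irreducible p) {m : ℕ}
    (hd : finrank K X ≤ (m + 1) * p.natDegree) (h : ∀ v, aeval u (p ^ (m + 1)) v = 0) {w : X} (hw : aeval u (p ^ m) w ≠ 0) :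
    orb u w = ⊤ := by
  have : Module.Finite K X := Module.Finite.of_finite
  have h1 : ∀ f v, aeval u f v = 0 → v ≠ 0 → p ∣ f := fun f v hf hv => (hp.isCoprime_or_dvd f).resolve_left fun k => by
    obtain ⟨a, b, e⟩ := k.pow_left (m := m + 1)
    have h2 := congrArg (aeval u · v) e
    simp only [map_add, LinearMap.add_apply, aeval_mul_apply, h, hf, map_zero, map_one, End.one_apply, add_zero] at h2
    exact hv h2.symm
  have h2 : ∀ i f v, aeval u f v = 0 → aeval u (p ^ i) v ≠ 0 → p ^ (i + 1) ∣ f := fun i => by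
    induction i with
    | zero => exact fun f v hf hv => (pow_one p).symm ▸ h1 f v hf fun k => hv (by rw [k, map_zero])
    | succ i ih =>
      intro f v hf hv
      obtain ⟨f, rfl⟩ := h1 f v hf fun k => hv (by rw [k, map_zero])
      rw [pow_succ']
      exact mul_dvd_mul_left p (ih f (aeval u p v) (by rwa [← aeval_mul_apply, mul_comm])
        (by rwa [← aeval_mul_apply, ← pow_succ]))
  exact orb_eq_top (pow_ne_zero _ hp.ne_zero) (by rwa [Polynomial.natDegree_pow]) fun f hf => h2 m f w hf hw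

theorem four (hK : Fintype.card K ≤ 3) : ∃ u, Gen (R4 K) u ∧ Bl (R4 K) ⊤ u := by
  obtain ⟨u, hu, h⟩ := exists_u4 K
  have hq := two_le_q K
  have h0 := FiniteField.cast_card_eq_zero K
  have h1 := FiniteField.pow_card (K := K)
  have h6 : (6 : K) = 0 ∧ ∀ x : K, x ^ 3 = x := by
    obtain k | k : Fintype.card K = 2 ∨ Fintype.card K = 3 := by omega
    all_goals rw [k] at h0 h1; push_cast at h0
    exacts [⟨by linear_combination 3 * h0, fun x => by linear_combination (x + 1) * h1 x⟩,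
      ⟨by linear_combination 2 * h0, h1⟩]
  let p : Polynomial K := Polynomial.X ^ 2 - 3 * Polynomial.X + 1
  have h2 : p.natDegree = 2 := by unfold p; compute_degree!
  have h3 : Irreducible p := Polynomial.irreducible_of_degree_le_three_of_not_isRoot (by rw [h2]; decide) fun x hx => by
    have hx : x ^ 2 - 3 * x + 1 = 0 := by simpa [p] using hx
    exact one_ne_zero (α := K) (by linear_combination (1 + x * (x + 3)) * hx - x * h6.2 x + x ^ 2 * h6.1)
  have h4 : ∀ v : (K × K) × K × K, aeval (u : End K _) p v = ((-3 * v.1.2 - 4 * v.2.2, 0), (v.1.2 + 3 * v.2.2, 0)) := fun v => by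
    simp only [p, map_add, map_sub, map_mul, Polynomial.aeval_X, map_one, map_ofNat, pow_two, LinearMap.add_apply,
      LinearMap.sub_apply, End.mul_apply, End.one_apply, LinearEquiv.coe_coe, h, End.ofNat_apply]
    ext <;> simp <;> ring
  have h5 : ∀ v : (K × K) × K × K, aeval (u : End K _) p v = 0 → v.1.2 = 0 ∧ v.2.2 = 0 := fun v k => by
    simp only [h4, Prod.mk_eq_zero, and_true] at k
    have h5 : v.2.2 = 0 := by linear_combination v.2.2 * h6.1 - k.1 - 3 * k.2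
    exact ⟨by linear_combination k.2 - 3 * h5, h5⟩
  have h7 := fun w => orb_pow (u := u.toLinearMap) (w := w) (m := 1) h3 (by rw [(sg_R4 K).dim, h2]) fun v => by
    rw [pow_succ, pow_one, aeval_mul_apply, h4, h4]
    simp
  rw [pow_one] at h7
  have h8 : ∀ v, u (u v) = v → v = 0 := fun v k => by
    simp only [h, Prod.ext_iff] at k
    obtain ⟨⟨k1, k2⟩, k3, k4⟩ := k
    have h8 : v.2.2 = 0 := by linear_combination v.2.2 * h6.1 - 3 * k2 + k4
    have h9 : v.1.2 = 0 := by linear_combination k2 - 3 * h8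
    have h10 : v.1.1 = 0 := by linear_combination v.1.1 * h6.1 + k1 + 3 * k3 - 6 * h9 - 8 * h8
    exact Prod.ext (Prod.ext h10 h9) (Prod.ext (show v.2.1 = 0 by linear_combination k3 + 3 * h10 - 4 * h9 - 6 * h8) h8)
  refine ⟨u, ⟨hu, cycV_iff.2 ⟨((0, 1), (0, 0)), h7 _ fun k => one_ne_zero (h5 _ k).1⟩, h8⟩, fun _ _ => trivial,
    fun y _ => h8 y, fun Z _ n k => or_iff_not_imp_right.2 fun h9 => eq_bot_iff.2 fun z hz => ?_⟩
  have h10 : ∀ z ∈ Z, z.1.2 = 0 ∧ z.2.2 = 0 := fun z hz => h5 z (by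
    by_contra h10
    exact h9 (top_unique ((h7 z h10).ge.trans (orb_le_of k hz))))
  exact H955.nondeg_res_iff.1 n z hz fun y hy => by simp [R4_polar, h10 z hz, h10 y hy]

theorem mo_plus (hj : j ≠ 0) (h : j = 1 → 3 < Fintype.card K) : Mo K j 1 := by
  have hq := two_le_q K
  by_cases h4 : j = 2 ∧ Fintype.card K ≤ 3
  · obtain ⟨rfl, h4⟩ := h4
    obtain ⟨u, hu, -⟩ := four h4
    exact ⟨_, _, _, inferInstance, R4 K, sg_R4 K, fun t =>
      gt_even (sg_R4 K).nondeg (sg_R4 K).dim hu (fun k => absurd k (by decide))⟩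
  obtain ⟨L, _, _, b, _, g, -, hg⟩ := H93.PReg.Singer.exists_ext K j hj
  have hL : finrank K L = j := by rw [finrank_eq_card_basis b, Fintype.card_fin]
  have hR := H530.OZ.sg_tq K L hL
  refine ⟨_, _, _, inferInstance, tq K L, hR, fun t ht h7 => ?_⟩
  obtain ⟨j, rfl⟩ := Nat.exists_eq_succ_of_ne_zero hj
  have h1 : ∀ d, 0 < d → d * (Fintype.card K ^ j + 1) < Fintype.card K ^ (j + 1) - 1 → dw (g ^ d) ∈ E2 (tq K L) → GT (tq K L) t :=
    fun d h0 hd k => gt_even hR.nondeg hR.dim ⟨k, cyc_dw (tor_pow hL hg h0 hd), fun x => (bl_dw (tor_pow hL hg h0 hd)).fr x trivial⟩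
      (fun k k' => by have := h k; omega) ht h7
  have h2 : ∀ i ≤ j, Fintype.card K ^ i ≤ Fintype.card K ^ j := fun i => Nat.pow_le_pow_right Fintype.card_pos
  have h3 : (j = 0 ∧ 3 < Fintype.card K) ∨ (Fintype.card K ≤ Fintype.card K ^ j ∧ 3 < Fintype.card K) ∨
      Fintype.card K * Fintype.card K ≤ Fintype.card K ^ j := by
    obtain rfl | rfl | k : j = 0 ∨ j = 1 ∨ 2 ≤ j := by omega
    exacts [Or.inl ⟨rfl, h rfl⟩, Or.inr (Or.inl ⟨(pow_one _).ge, not_le.1 fun k => h4 ⟨rfl, k⟩⟩),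
      Or.inr (Or.inr (pow_two (Fintype.card K) ▸ h2 2 k))]
  rcases Nat.even_or_odd (Fintype.card K) with h5 | h5
  · refine h1 1 one_pos (Nat.lt_sub_of_add_lt ?_) (odd_E2 (n := orderOf g) (dw_mem_O _) ?_ ?_)
    · rw [pow_succ]
      rcases h3 with ⟨rfl, h3⟩ | h3 | h3
      · rw [pow_zero]; omega
      all_goals nlinarith
    · rw [hg]
      exact Nat.Even.sub_odd (Nat.one_le_pow _ _ Fintype.card_pos) (h5.pow_of_ne_zero hj) odd_one
    · rw [H530.OZ.dw_pow, pow_one, pow_orderOf_eq_one, ← pow_zero g, ← H530.OZ.dw_pow, pow_zero]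
  by_cases h6 : j = 0 ∧ Fintype.card K = 5
  · obtain ⟨rfl, h6⟩ := h6
    have h8 := tor_pow hL hg one_pos (by rw [h6]; decide)
    have h9 : (g : L) * g = -1 := neg_one_of (by rw [orderOf_units, hg, h6]; rfl)
    refine gt_spc hR.nondeg (two_ne_of_card h5) hR.dim (dw_mem_O _) (cyc_dw h8) (fun x => ?_) (by omega)
    rw [dw_apply, dw_apply, pow_one, ← mul_assoc, ← mul_assoc, h9, Units.val_inv_eq_inv_val, ← mul_inv, h9, inv_neg, inv_one,
      neg_one_mul, neg_one_mul]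
    rfl
  refine h1 2 two_pos (Nat.lt_sub_of_add_lt ?_) (by rw [← H530.OZ.dw_pow, pow_two]; exact sq_E2 (dw_mem_O _))
  obtain ⟨m, h5⟩ := h5
  rw [pow_succ]
  rcases h3 with ⟨rfl, h3⟩ | h3 | h3
  · rw [pow_zero]; omega
  all_goals nlinarith [show 3 ≤ Fintype.card K by omega]

end Cfsg.Agent.N2C.FrO
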