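import Cfsg.Agent.N2.Cl.FrO.Wr

/-!
# N2 (S3519), orthogonal groups, frames: the inequalities (helper76)
-/

set_option autoImplicit false

namespace Cfsg.Agent.N2C.FrO

open Nat

variable {k z z' t m q : ℕ}

theorem Nm.mono (h : Nm k z t m q) (hz : z' ≤ z) : Nm k z' t m q :=
  le_trans (Nat.mul_le_mul_left 4 (Nat.mul_le_mul_right _ (Nat.mul_le_mul_left k (Nat.pow_le_pow_left hz 3)))) h

theorem up_q {A a d q₀ : ℕ} (h : A * (q₀ + 1) ^ a ≤ 5 * q₀ ^ (a + d)) (h0 : 0 < q₀) (hq : q₀ ≤ q) :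
    A * (q + 1) ^ a ≤ 5 * q ^ (a + d) := by
  have h1 := Nat.pow_le_pow_left (show (q + 1) * q₀ ≤ (q₀ + 1) * q by nlinarith) a
  rw [mul_pow, mul_pow] at h1
  refine Nat.le_of_mul_le_mul_right ?_ (pow_pos h0 a)
  calc A * (q + 1) ^ a * q₀ ^ a ≤ A * ((q₀ + 1) ^ a * q ^ a) := by rw [mul_assoc]; exact Nat.mul_le_mul_left _ h1
    _ ≤ 5 * q₀ ^ (a + d) * q ^ a := by rw [← mul_assoc]; exact Nat.mul_le_mul_right _ h
    _ = 5 * (q ^ a * q₀ ^ d) * q₀ ^ a := by ring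
    _ ≤ _ := by
      rw [pow_add]
      exact Nat.mul_le_mul_right _ (Nat.mul_le_mul_left _ (Nat.mul_le_mul_left _ (Nat.pow_le_pow_left hq d)))

theorem tri2 (n : ℕ) : 2 * (n * (n - 1) / 2) + n = n ^ 2 := by
  induction n with
  | zero => rfl
  | succ n ih => rw [Cyc.tri_succ]; nlinarith

theorem fact_two (s : ℕ) : (s + 3)! ≤ 2 ^ ((s + 3) * (s + 1)) := by
  induction s with
  | zero => decide
  | succ s ih =>
    rw [show s + 1 + 3 = s + 3 + 1 from rfl, factorial_succ, show (s + 3 + 1) * (s + 1 + 1) = 2 * s + 5 + (s + 3) * (s + 1) by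
      ring, pow_add]
    exact Nat.mul_le_mul (Nat.lt_two_pow_self.le.trans (Nat.pow_le_pow_right two_pos (by omega))) ih

theorem lt_three (n : ℕ) : 2 * n ≤ 3 ^ n := by
  induction n with
  | zero => decide
  | succ n ih => have := Nat.one_le_pow n 3 three_pos; rw [pow_succ]; omega

theorem fact_three (s : ℕ) : (s + 3)! * 2 ^ (s + 3) ≤ 3 ^ ((s + 3) * (s + 2)) := by
  induction s with
  | zero => decide
  | succ s ih =>
    rw [show s + 1 + 3 = s + 3 + 1 from rfl, factorial_succ, show (s + 3 + 1) * (s + 1 + 2) = 2 * s + 6 + (s + 3) * (s + 2) by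
      ring, pow_add 3, pow_succ, show ∀ a b c, a * b * (c * 2) = 2 * a * (b * c) from fun _ _ _ => by ring]
    exact Nat.mul_le_mul ((lt_three _).trans (Nat.pow_le_pow_right three_pos (by omega))) ih

theorem cube_two (hq : 2 ≤ q) : (q + 1) ^ 3 ≤ q ^ 5 := by
  obtain ⟨r, rfl⟩ := Nat.exists_eq_add_of_le' hq
  ring_nf
  omega

theorem cube_three (hq : 3 ≤ q) : (q + 1) ^ 3 ≤ q ^ 4 := by
  obtain ⟨r, rfl⟩ := Nat.exists_eq_add_of_le' hq
  ring_nf
  omega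

/-- even dimension at least four -/
theorem nm_even {j δ : ℕ} (hq : 2 ≤ q) (hj : 2 ≤ j) (hδ : δ ≤ 1) (ht : 3 + δ ≤ t) :
    Nm 1 ((q + 1) ^ (t * j) * bO (2 * j) q ^ δ) t (2 * j) q := by
  have h1 : bO (2 * j) q ≤ q ^ (2 * j * (2 * j - 1) / 2 + 1) := by
    rw [bO, if_neg (by omega), pow_succ']
    exact Nat.mul_le_mul_right _ hq
  have h2 := tri2 (2 * j)
  have h3 := tri2 (t * (2 * j))
  unfold Nm
  generalize t * (2 * j) * (t * (2 * j) - 1) / 2 = N at h3 ⊢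
  generalize 2 * j * (2 * j - 1) / 2 = e at h1 h2
  obtain ⟨s, rfl⟩ := Nat.exists_eq_add_of_le' (show 3 ≤ t by omega)
  calc _ = 4 * (((q + 1) ^ 3) ^ ((s + 3) * j) * ((s + 3)! * bO (2 * j) q ^ (3 * δ + (s + 3)))) := by
        rw [← pow_mul]; ring
    _ ≤ 5 * ((q ^ 5) ^ ((s + 3) * j) * (q ^ ((s + 3) * (s + 1)) * (q ^ (e + 1)) ^ (3 * δ + (s + 3)))) :=
      Nat.mul_le_mul (by norm_num) (Nat.mul_le_mul (Nat.pow_le_pow_left (cube_two hq) _)
        (Nat.mul_le_mul ((fact_two s).trans (Nat.pow_le_pow_left hq _)) (Nat.pow_le_pow_left h1 _)))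
    _ ≤ _ := by
      rw [← pow_mul, ← pow_mul, ← pow_add, ← pow_add]
      refine Nat.mul_le_mul_left _ (Nat.pow_le_pow_right (by omega) ?_)
      obtain ⟨i, rfl⟩ := Nat.exists_eq_add_of_le' hj
      obtain rfl : e = (i + 2) * (2 * i + 3) := by nlinarith
      obtain rfl | rfl : δ = 0 ∨ δ = 1 := by omega
      · ring_nf at h3 ⊢
        omega
      · obtain ⟨s, rfl⟩ := Nat.exists_eq_add_of_le' (show 1 ≤ s by omega)
        ring_nf at h3 ⊢
        omega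

/-- odd dimension at least three -/
theorem nm_odd {j a δ : ℕ} (hq : 3 ≤ q) (hj : 1 ≤ j) (hδ : δ ≤ 1) (ht : 3 + δ ≤ t)
    (ha : 2 * a + 1 + (2 * j + 1) * δ ≤ t * (2 * j + 1)) :
    Nm 2 (2 * (q + 1) ^ a * q ^ (2 * (2 * j + 1) * δ)) t (2 * j + 1) q := by
  have h2 := tri2 (2 * j + 1)
  have h3 := tri2 (t * (2 * j + 1))
  rw [Nm, bO, if_neg (by omega)]
  generalize t * (2 * j + 1) * (t * (2 * j + 1) - 1) / 2 = N at h3 ⊢
  generalize (2 * j + 1) * (2 * j + 1 - 1) / 2 = e at h2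
  obtain ⟨s, rfl⟩ := Nat.exists_eq_add_of_le' (show 3 ≤ t by omega)
  calc _ = 64 * (((q + 1) ^ 3) ^ a * ((s + 3)! * 2 ^ (s + 3) * q ^ (6 * (2 * j + 1) * δ + e * (s + 3)))) := by
        rw [← pow_mul]; ring
    _ ≤ 5 * q ^ 3 * ((q ^ 4) ^ a * (q ^ ((s + 3) * (s + 2)) * q ^ (6 * (2 * j + 1) * δ + e * (s + 3)))) :=
      Nat.mul_le_mul (le_trans (by norm_num) (Nat.mul_le_mul_left 5 (Nat.pow_le_pow_left hq 3)))
        (Nat.mul_le_mul (Nat.pow_le_pow_left (cube_three hq) _)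
          (Nat.mul_le_mul_right _ ((fact_three s).trans (Nat.pow_le_pow_left hq _))))
    _ ≤ _ := by
      rw [← pow_mul, mul_assoc, ← pow_add, ← pow_add, ← pow_add]
      refine Nat.mul_le_mul_left _ (Nat.pow_le_pow_right (by omega) ?_)
      obtain ⟨i, rfl⟩ := Nat.exists_eq_add_of_le' hj
      obtain rfl : e = (i + 1) * (2 * i + 3) := by nlinarith
      obtain rfl | rfl : δ = 0 ∨ δ = 1 := by omega
      · ring_nf at h3 ha ⊢
        omega
      · obtain ⟨s, rfl⟩ := Nat.exists_eq_add_of_le' (show 1 ≤ s by omega)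
        ring_nf at h3 ha ⊢
        omega

theorem two_aux (s : ℕ) : 32 * (s + 6)! * 2 ^ (s + 6) * (2 + 1) ^ (4 * (s + 6)) ≤
    5 * 2 ^ (4 * (s + 6) + (s + 6) * (2 * s + 7)) := by
  induction s with
  | zero => decide +kernel
  | succ s ih =>
    have h1 : (s + 7) * 162 ≤ 2 ^ (s + 7) * 2 ^ (3 * s + 18) :=
      Nat.mul_le_mul Nat.lt_two_pow_self.le (le_trans (by norm_num) (Nat.pow_le_pow_right two_pos (show 8 ≤ _ by omega)))
    calc _ = (s + 7) * 162 * (32 * (s + 6)! * 2 ^ (s + 6) * (2 + 1) ^ (4 * (s + 6))) := by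
          rw [show s + 1 + 6 = s + 6 + 1 from rfl, factorial_succ]; ring
      _ ≤ _ := Nat.mul_le_mul h1 ih
      _ = _ := by ring

/-- planes -/
theorem nm_two {s : ℕ} (hq : 2 ≤ q) (hs : s ≤ 2) (ht : 6 ≤ t ∨ (t = 5 ∧ s = 1) ∨ (t = 4 ∧ 3 ≤ q)) :
    Nm 1 (s * (q + 1) ^ t) t 2 q := by
  have h1 : ∀ s d, t * 2 * (t * 2 - 1) / 2 = 4 * t + d → 4 * s ^ 3 * t ! * 2 ^ t * (q + 1) ^ (4 * t) ≤ 5 * q ^ (4 * t + d) →
      Nm 1 (s * (q + 1) ^ t) t 2 q := fun s d h1 h2 => by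
    rw [Nm, bO, if_pos rfl, h1, mul_pow 2]
    generalize q + 1 = x at h2 ⊢
    exact le_trans (le_of_eq (by ring)) h2
  rcases ht with ht | ⟨rfl, rfl⟩ | ⟨rfl, h3⟩
  · obtain ⟨r, rfl⟩ := Nat.exists_eq_add_of_le' ht
    exact (h1 2 _ (by have := tri2 ((r + 6) * 2); nlinarith) (up_q (two_aux r) two_pos hq)).mono
      (Nat.mul_le_mul_right _ hs)
  · exact h1 1 25 rfl (up_q (by decide +kernel) two_pos hq)
  · exact (h1 2 12 rfl (up_q (by decide +kernel) three_pos h3)).mono (Nat.mul_le_mul_right _ hs)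

theorem one_aux (s : ℕ) {N : ℕ} (h : 2 * N + (s + 11) = (s + 11) ^ 2) :
    ∃ Z, Z + (2 * s + 23) ≤ N ∧ 512 * (s + 11)! * 2 ^ (s + 11) ≤ 5 * 3 ^ Z := by
  induction s generalizing N with
  | zero => exact ⟨32, by omega, by decide +kernel⟩
  | succ s ih =>
    obtain ⟨N, rfl⟩ := Nat.exists_eq_add_of_le' (show s + 11 ≤ N by nlinarith)
    obtain ⟨Z, h1, h2⟩ := ih (N := N) (by nlinarith)
    refine ⟨s + 9 + Z, by omega, ?_⟩
    have h3 : (s + 12) * 2 ≤ 3 ^ (s + 9) := by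
      have := lt_three (s + 8)
      rw [pow_succ]
      omega
    calc _ = (s + 12) * 2 * (512 * (s + 11)! * 2 ^ (s + 11)) := by
          rw [show s + 1 + 11 = s + 11 + 1 from rfl, factorial_succ]; ring
      _ ≤ _ := Nat.mul_le_mul h3 h2
      _ = _ := by ring

theorem nm_one_of {A a c : ℕ} (d : ℕ) (h1 : t * 1 * (t * 1 - 1) / 2 = 3 * a + d + 3 * c)
    (h2 : 8 * A ^ 3 * t ! * 2 ^ t * (q + 1) ^ (3 * a) ≤ 5 * q ^ (3 * a + d)) : Nm 2 (A * (q + 1) ^ a * q ^ c) t 1 q := by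
  rw [Nm, bO, if_neg (by decide), h1, pow_add _ _ (3 * c), ← mul_assoc 5]
  exact le_trans (le_of_eq (by ring)) (Nat.mul_le_mul_right _ h2)

theorem nm_big {a : ℕ} (hq : 3 ≤ q) (ht : 11 ≤ t) (ha : 2 * a + 1 ≤ t) : Nm 2 (4 * (q + 1) ^ a * q ^ 1) t 1 q := by
  obtain ⟨s, rfl⟩ := Nat.exists_eq_add_of_le' ht
  obtain ⟨Z, h1, h2⟩ := one_aux s (tri2 (s + 11))
  obtain ⟨d, hd⟩ := Nat.exists_eq_add_of_le (show 3 * a + 3 * 1 ≤ (s + 11) * (s + 11 - 1) / 2 by omega)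
  refine nm_one_of d (by rw [mul_one, hd]; ring) ?_
  calc _ ≤ 5 * q ^ Z * (q ^ 4) ^ a := by
        rw [pow_mul]
        exact Nat.mul_le_mul (h2.trans (Nat.mul_le_mul_left _ (Nat.pow_le_pow_left hq _)))
          (Nat.pow_le_pow_left (cube_three hq) _)
    _ ≤ _ := by
      rw [← pow_mul, mul_assoc, ← pow_add]
      exact Nat.mul_le_mul_left _ (Nat.pow_le_pow_right (by omega) (by omega))

/-- points, an odd number -/
theorem nm_one_odd {a : ℕ} (hq : 3 ≤ q) (ha : 3 ≤ a) (h : a = 3 → 5 ≤ q) : Nm 2 (2 * (q + 1) ^ a) (2 * a + 1) 1 q := by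
  by_cases h5 : 5 ≤ a
  · exact (nm_big hq (by omega) le_rfl).mono (by rw [pow_one]; nlinarith [Nat.zero_le ((q + 1) ^ a)])
  refine Nm.mono (z := 2 * (q + 1) ^ a * q ^ 0) ?_ (mul_one _).ge
  obtain rfl | rfl : a = 3 ∨ a = 4 := by omega
  · exact nm_one_of 12 rfl (up_q (by decide +kernel) (by norm_num) (h rfl))
  · exact nm_one_of 24 rfl (up_q (by decide +kernel) three_pos hq)

/-- points, an even number -/
theorem nm_one_even {a : ℕ} (hq : 3 ≤ q) (ha : 3 ≤ a) (h : a = 3 → 5 ≤ q) :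
    Nm 2 (4 * (q + 1) ^ a * q ^ 1) (2 * a + 1 + 1) 1 q := by
  by_cases h5 : 5 ≤ a
  · exact nm_big hq (by omega) (by omega)
  obtain rfl | rfl : a = 3 ∨ a = 4 := by omega
  · exact nm_one_of 16 rfl (up_q (by decide +kernel) (by norm_num) (h rfl))
  · exact nm_one_of 30 rfl (up_q (by decide +kernel) three_pos hq)

theorem nm_7 : Nm 2 18 7 1 3 := by unfold Nm; decide +kernel

theorem nm_8 : Nm 2 109 8 1 3 := by unfold Nm; decide +kernel

theorem nm_4 : Nm 1 18 4 2 2 := by unfold Nm; decide +kernel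

end Cfsg.Agent.N2C.FrO
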