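import Cfsg.Agent.N2.Cl.FrO.Cent
import Cfsg.Agent.H955.QOdd
import Cfsg.Agent.H954.TSing7
import Cfsg.Agent.H160.QSpin
import Cfsg.Agent.H450.Ux.YcFour

/-!
# N2 (S3519), orthogonal groups, frames: the wreath product (helper76)

* `E2 Q` : generated by the Siegel transformations and the squares; `Emb.up` : extension by the identity;
* `pq ι R`, `mon π c`, `Wr ι R` : the orthogonal sum of copies of `R` and the monomial group;
* `good_one`, `good_two`, `fx_gain` : the criteria;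
* `cyc r u`, `sm` : cyclic elements, sums.
-/

set_option autoImplicit false
set_option linter.unusedSectionVars false

namespace Cfsg.Agent.N2C.FrO

open Module QuadraticMap Cfsg.Agent.N2C.Cyc
open Equiv (Perm)
open Cfsg.Agent.LieClassical.OrthCore Cfsg.Agent.LieClassical.OrthTrans
open Cfsg.Agent.LieClassical.OrthFinite (good_of_finite)
open Cfsg.Agent.H955 (osum osum_apply polar_osum)
open Cfsg.Agent.FP3 (fx)

variable {K V X Y : Type} [Field K] [AddCommGroup V] [Module K V] [AddCommGroup X] [Module K X] [AddCommGroup Y]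
  [Module K Y] {Q : QuadraticForm K V} {R : QuadraticForm K X} {S : QuadraticForm K Y}

/-- Siegel transformations and squares -/
def E2 (Q : QuadraticForm K V) : Subgroup (V ≃ₗ[K] V) := Subgroup.closure (siegelSet Q ∪ {g | ∃ x ∈ O Q, g = x * x})

theorem E_le_E2 : E Q ≤ E2 Q := Subgroup.closure_mono Set.subset_union_left

theorem sq_E2 {x : V ≃ₗ[K] V} (hx : x ∈ O Q) : x * x ∈ E2 Q := Subgroup.subset_closure (Or.inr ⟨x, hx, rfl⟩)

theorem E2_le_E (hG : Good Q) : E2 Q ≤ E Q := (Subgroup.closure_le _).2 (by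
  rintro _ (h | ⟨x, hx, rfl⟩)
  exacts [Subgroup.subset_closure h, H955.sq_mem_E hG hx])

theorem E2_le_O : E2 Q ≤ O Q := (Subgroup.closure_le _).2 (by
  rintro _ (h | ⟨x, hx, rfl⟩)
  exacts [E_le_O (Subgroup.subset_closure h), mul_mem hx hx])

theorem odd_E2 {g : V ≃ₗ[K] V} (hg : g ∈ O Q) {n : ℕ} (hn : Odd n) (h : g ^ n = 1) : g ∈ E2 Q := by
  obtain ⟨m, rfl⟩ := hn
  rw [show g = ((g * g) ^ m)⁻¹ by rw [eq_inv_iff_mul_eq_one, ← pow_two, ← pow_mul, ← pow_succ', h]]
  exact inv_mem (pow_mem (sq_E2 hg) m)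

/-- an isometric embedding and the projection -/
structure Emb (R : QuadraticForm K X) (Q : QuadraticForm K V) where
  /-- the embedding -/
  φ : X →ₗ[K] V
  /-- the projection -/
  ψ : V →ₗ[K] X
  ψφ : ∀ x, ψ (φ x) = x
  q : ∀ x, Q (φ x) = R x
  b : ∀ x v, polar Q (φ x) v = polar R x (ψ v)

namespace Emb

variable (f : Emb R Q)

/-- the extension by the identity -/
def up0 : End K X →* End K V where
  toFun g := 1 + f.φ ∘ₗ (g - 1) ∘ₗ f.ψ
  map_one' := by simp
  map_mul' g g' := LinearMap.ext fun v => by simp [f.ψφ, add_assoc]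

/-- the extension by the identity -/
def up : (X ≃ₗ[K] X) →* (V ≃ₗ[K] V) :=
  (LinearMap.GeneralLinearGroup.generalLinearEquiv K V).toMonoidHom.comp
    (f.up0.comp LinearEquiv.automorphismGroup.toLinearMapMonoidHom).toHomUnits

theorem up_apply (g : X ≃ₗ[K] X) (v : V) : f.up g v = v + f.φ (g (f.ψ v) - f.ψ v) := rfl

theorem up_φ (g : X ≃ₗ[K] X) (x : X) : f.up g (f.φ x) = f.φ (g x) := by rw [up_apply, f.ψφ, map_sub, add_sub_cancel]

theorem up_O {g : X ≃ₗ[K] X} (hg : g ∈ O R) : f.up g ∈ O Q := fun v => by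
  have h1 := Q_add (Q := R) (g (f.ψ v) - f.ψ v) (f.ψ v)
  rw [sub_add_cancel, hg] at h1
  rw [up_apply, add_comm, Q_add, f.q, f.b]
  linear_combination -h1

theorem up_E2 {g : X ≃ₗ[K] X} (hg : g ∈ E2 R) : f.up g ∈ E2 Q := by
  refine ((Subgroup.closure_le ((E2 Q).comap f.up)).2 ?_) hg
  rintro _ (⟨u, w, hu, hw, rfl⟩ | ⟨x, hx, rfl⟩)
  · refine Subgroup.subset_closure (Or.inl ⟨f.φ u, f.φ w, (f.q u).trans hu, by rw [f.b, f.ψφ, hw],
      LinearEquiv.ext fun v => ?_⟩)
    simp only [up_apply, siegel_apply, f.b, f.q, map_sub, map_add, map_smul]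
    abel
  · exact Subgroup.subset_closure (Or.inr ⟨_, f.up_O hx, map_mul _ _ _⟩)

/-- an isometry -/
def eqv (e : X ≃ₗ[K] V) (he : ∀ x, Q (e x) = R x) : Emb R Q :=
  ⟨e, e.symm, e.symm_apply_apply, he, fun x v => by
    obtain ⟨v, rfl⟩ := e.surjective v
    simp only [polar, LinearEquiv.coe_coe, ← map_add, he, e.symm_apply_apply]⟩

theorem eqv_up (e : X ≃ₗ[K] V) (he : ∀ x, Q (e x) = R x) (g : X ≃ₗ[K] X) (x : X) : (eqv e he).up g (e x) = e (g x) :=
  (eqv e he).up_φ g x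

/-- the first summand -/
def inl (S : QuadraticForm K Y) (R : QuadraticForm K X) : Emb S (osum S R) :=
  ⟨LinearMap.inl K Y X, LinearMap.fst K Y X, fun _ => rfl, fun x => by simp,
    fun x v => (polar_osum _ _).trans ((congrArg _ (polar_zero_left R _)).trans (add_zero _))⟩

/-- the second summand -/
def inr (S : QuadraticForm K Y) (R : QuadraticForm K X) : Emb R (osum S R) :=
  ⟨LinearMap.inr K Y X, LinearMap.snd K Y X, fun _ => rfl, fun x => by simp,
    fun x v => (polar_osum _ _).trans ((congrArg (· + _) (polar_zero_left S _)).trans (zero_add _))⟩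

end Emb

theorem prod_E2 {w : Y ≃ₗ[K] Y} {u : X ≃ₗ[K] X} (hw : w ∈ E2 S) (hu : u ∈ E2 R) : w.prodCongr u ∈ E2 (osum S R) := by
  rw [show w.prodCongr u = (Emb.inl S R).up w * (Emb.inr S R).up u from LinearEquiv.ext fun v => by
    simp [Emb.up_apply, Emb.inl, Emb.inr, Prod.ext_iff]]
  exact mul_mem (Emb.up_E2 _ hw) (Emb.up_E2 _ hu)

/-! ### the monomial group -/

variable {ι κ : Type} [Fintype ι] [DecidableEq ι] [Fintype κ] [DecidableEq κ]

/-- the orthogonal sum -/
abbrev pq (ι : Type) [Fintype ι] (R : QuadraticForm K X) : QuadraticForm K (ι → X) := QuadraticMap.pi fun _ => R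

theorem polar_single (i : ι) (x : X) (v : ι → X) : polar (pq ι R) (Pi.single i x) v = polar R x (v i) := by
  rw [Ring.polar_pi, Finset.sum_eq_single i (fun j _ hj => by rw [Pi.single_eq_of_ne hj, polar_zero_left]) (by simp),
    Pi.single_eq_same]

theorem pq_single (i : ι) (x : X) : pq ι R (Pi.single i x) = R x := pi_apply_single (fun _ => R) i x

theorem nondeg_pq (hR : Nondeg R) : Nondeg (pq ι R) := fun v hv => funext fun i => hR _ fun y => by
  rw [polar_comm, ← polar_single, polar_comm, hv]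

/-- one block -/
def Emb.one (R : QuadraticForm K X) (i : ι) : Emb R (pq ι R) :=
  ⟨LinearMap.single K (fun _ => X) i, LinearMap.proj i, fun _ => Pi.single_eq_same _ _, pq_single i,
    polar_single i⟩

/-- monomial maps -/
def mon (π : Perm ι) (c : ι → X ≃ₗ[K] X) : (ι → X) ≃ₗ[K] (ι → X) :=
  (LinearEquiv.funCongrLeft K X π.symm).trans (LinearEquiv.piCongrRight c)

theorem mon_apply (π : Perm ι) (c : ι → X ≃ₗ[K] X) (v : ι → X) (i : ι) : mon π c v i = c i (v (π.symm i)) := rfl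

theorem mon_mul (π π' : Perm ι) (c c' : ι → X ≃ₗ[K] X) :
    mon π c * mon π' c' = mon (π * π') fun i => c i * c' (π.symm i) := LinearEquiv.ext fun _ => rfl

theorem mon_one : mon (1 : Perm ι) (1 : ι → X ≃ₗ[K] X) = 1 := LinearEquiv.ext fun _ => rfl

theorem mon_single (π : Perm ι) (c : ι → X ≃ₗ[K] X) (i : ι) (x : X) :
    mon π c (Pi.single i x) = Pi.single (π i) (c (π i) x) := funext fun j => by
  obtain ⟨j, rfl⟩ := π.surjective j
  rw [mon_apply, π.symm_apply_apply]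
  by_cases h : j = i
  · rw [h, Pi.single_eq_same, Pi.single_eq_same]
  · rw [Pi.single_eq_of_ne h, Pi.single_eq_of_ne (π.injective.ne h), map_zero]

theorem pi_ext {g g' : (ι → X) ≃ₗ[K] (ι → X)} (h : ∀ i x, g (Pi.single i x) = g' (Pi.single i x)) : g = g' :=
  LinearEquiv.toLinearMap_injective (LinearMap.pi_ext h)

/-- the base group -/
def bs : (ι → X ≃ₗ[K] X) →* ((ι → X) ≃ₗ[K] (ι → X)) := ⟨⟨mon 1, mon_one⟩, fun _ _ => LinearEquiv.ext fun _ => rfl⟩

variable (K X) in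
/-- the permutations -/
def pm : Perm ι →* ((ι → X) ≃ₗ[K] (ι → X)) := ⟨⟨fun π => mon π 1, mon_one⟩, fun _ _ => LinearEquiv.ext fun _ => rfl⟩

theorem mon_eq (π : Perm ι) (c : ι → X ≃ₗ[K] X) : mon π c = bs c * pm K X π := LinearEquiv.ext fun _ => rfl

theorem bs_single (i : ι) (u : X ≃ₗ[K] X) : bs (Pi.mulSingle i u) = (Emb.one R i).up u := LinearEquiv.ext fun v =>
  funext fun j => by
    change (Pi.mulSingle i u : ι → X ≃ₗ[K] X) j (v j) = v j + (Pi.single i (u (v i) - v i) : ι → X) j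
    by_cases h : j = i
    · rw [h, Pi.single_eq_same, Pi.mulSingle_eq_same, add_sub_cancel]
    · rw [Pi.single_eq_of_ne h, Pi.mulSingle_eq_of_ne h, add_zero]
      rfl

/-- the monomial group -/
def Wr (ι : Type) [Fintype ι] [DecidableEq ι] (R : QuadraticForm K X) : Subgroup ((ι → X) ≃ₗ[K] (ι → X)) where
  carrier := {g | ∃ π c, (∀ i, c i ∈ O R) ∧ g = mon π c}
  one_mem' := ⟨1, 1, fun _ => one_mem _, mon_one.symm⟩
  mul_mem' := by
    rintro _ _ ⟨π, c, h, rfl⟩ ⟨π', c', h', rfl⟩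
    exact ⟨_, _, fun i => mul_mem (h i) (h' _), mon_mul _ _ _ _⟩
  inv_mem' := by
    rintro _ ⟨π, c, h, rfl⟩
    exact ⟨π⁻¹, fun i => (c (π i))⁻¹, fun i => inv_mem (h _), inv_eq_of_mul_eq_one_left (by
      rw [mon_mul, inv_mul_cancel]
      exact (congrArg (mon 1) (funext fun i => inv_mul_cancel _)).trans mon_one)⟩

theorem Wr_le_O : Wr ι R ≤ O (pq ι R) := by
  rintro _ ⟨π, c, h, rfl⟩ v
  rw [pi_apply, pi_apply, ← π.symm.sum_comp fun i => R (v i)]
  exact Finset.sum_congr rfl fun i _ => h i _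

theorem pm_mem (π : Perm ι) : pm K X π ∈ Wr ι R := ⟨π, 1, fun _ => one_mem _, rfl⟩

theorem single_mem {u : X ≃ₗ[K] X} (hu : u ∈ O R) (i j : ι) : (Pi.mulSingle i u : ι → X ≃ₗ[K] X) j ∈ O R := by
  by_cases h : j = i
  · rwa [h, Pi.mulSingle_eq_same]
  · rw [Pi.mulSingle_eq_of_ne h]
    exact one_mem _

theorem mon_inj [Nontrivial X] {π π' : Perm ι} {c c' : ι → X ≃ₗ[K] X} (h : mon π c = mon π' c') : π = π' ∧ c = c' := by
  obtain ⟨x, hx⟩ := exists_ne (0 : X)
  obtain rfl : π = π' := Equiv.ext fun i => by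
    by_contra k
    have h1 := congrFun (LinearEquiv.congr_fun h (Pi.single i x)) (π i)
    rw [mon_single, mon_single, Pi.single_eq_same, Pi.single_eq_of_ne k] at h1
    exact hx ((c _).map_eq_zero_iff.1 h1)
  exact ⟨rfl, funext fun i => LinearEquiv.ext fun y => congrFun (LinearEquiv.congr_fun h fun _ => y) i⟩

theorem card_Wr [Nontrivial X] : Nat.card (Wr ι R) = (Fintype.card ι).factorial * Nat.card (O R) ^ Fintype.card ι := by
  rw [← Nat.card_congr (Equiv.ofBijective (fun y : Perm ι × (ι → O R) =>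
    (⟨mon y.1 fun i => y.2 i, _, _, fun i => (y.2 i).2, rfl⟩ : Wr ι R)) ⟨fun y z e => ?_, ?_⟩), Nat.card_prod, Nat.card_perm,
    Nat.card_fun, Nat.card_eq_fintype_card (α := ι)]
  · rintro ⟨_, π, c, h, rfl⟩
    exact ⟨⟨π, fun i => ⟨c i, h i⟩⟩, rfl⟩
  · obtain ⟨h1, h2⟩ := mon_inj (Subtype.mk.inj e)
    exact Prod.ext h1 (funext fun i => Subtype.ext (congrFun h2 i))

variable [Fintype K] [Finite V] [Finite X] [Finite Y]

theorem mem_Wr [Nontrivial X] {g : (ι → X) ≃ₗ[K] (ι → X)} (hg : g ∈ O (pq ι R))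
    (h : ∀ i, ∃ j, ∀ x, ∃ y, g (Pi.single i x) = Pi.single j y) : g ∈ Wr ι R := by
  have : Module.Finite K X := Module.Finite.of_finite
  choose j hj using h
  have h1 : ∀ i x, g (Pi.single i x) = Pi.single (j i) (g (Pi.single i x) (j i)) := fun i x => by
    obtain ⟨y, hy⟩ := hj i x
    rw [hy, Pi.single_eq_same]
  let c : ι → X ≃ₗ[K] X := fun i => LinearEquiv.ofInjectiveEndo
    (LinearMap.proj (j i) ∘ₗ g.toLinearMap ∘ₗ LinearMap.single K (fun _ => X) i) fun x y e =>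
      Pi.single_injective (M := fun _ => X) i (g.injective ((h1 i x).trans ((congrArg _ e).trans (h1 i y).symm)))
  have h2 : ∀ i x, g (Pi.single i x) = Pi.single (j i) (c i x) := h1
  have h3 : Function.Injective j := fun i i' e => by
    by_contra k
    obtain ⟨x, hx⟩ := exists_ne (0 : X)
    obtain ⟨y, hy⟩ := (c i').surjective (c i x)
    have h4 := congrFun (g.injective ((h2 i x).trans (by rw [h2 i' y, hy, e]))) i
    rw [Pi.single_eq_same, Pi.single_eq_of_ne k] at h4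
    exact hx h4
  let π := Equiv.ofBijective j (Finite.injective_iff_bijective.1 h3)
  refine ⟨π, fun i => c (π.symm i), fun i x => ?_, pi_ext fun i x => by rw [mon_single, π.symm_apply_apply, h2]; rfl⟩
  have h4 := hg (Pi.single (π.symm i) x)
  rwa [h2, pq_single, pq_single] at h4

theorem refl_mem_Wr [Nontrivial X] (i : ι) (x : X) (h : pq ι R (Pi.single i x) ≠ 0) : refl _ _ h ∈ Wr ι R :=
  mem_Wr (refl_mem_O h) fun j => ⟨j, fun z => by
    rw [refl_apply, polar_single]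
    by_cases k : i = j
    · exact ⟨_, by rw [k, ← Pi.single_smul', ← Pi.single_sub]⟩
    · exact ⟨z, by rw [Pi.single_eq_of_ne k, polar_zero_right, mul_zero, zero_smul, sub_zero]⟩⟩

/-! ### the criteria -/

theorem fx_le_over {T G : Type*} [Group T] [Group G] [Finite G] (j : T →* G) (H : Subgroup G) (a : T) :
    fx (H.comap j) a ≤ fx H (j a) := by
  let f : T ⧸ H.comap j → G ⧸ H := Quotient.map' j fun a b h => by
    rw [QuotientGroup.leftRel_apply] at h ⊢
    simpa using h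
  refine Nat.card_le_card_of_injective (fun x => ⟨f x.1, ?_⟩) ?_
  · obtain ⟨x, hx⟩ := x
    induction x using QuotientGroup.induction_on with
    | H t =>
    exact (N2.smul_mk_iff H (j a) (j t)).2 (by simpa using (N2.smul_mk_iff _ a t).1 hx)
  · rintro ⟨x, _⟩ ⟨y, _⟩ e
    induction x using QuotientGroup.induction_on
    induction y using QuotientGroup.induction_on
    exact Subtype.ext (QuotientGroup.eq.2 (by simpa using QuotientGroup.eq.1 (Subtype.mk.inj e)))

/-- the bound for the orthogonal group -/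
def bO (m q : ℕ) : ℕ := if m = 2 then 2 * (q + 1) else 2 * q ^ (m * (m - 1) / 2)

theorem card_O_bO (hR : Nondeg R) : Nat.card (O R) ≤ bO (finrank K X) (Fintype.card K) := by
  unfold bO
  split_ifs with h
  exacts [card_O_two hR h, card_O_le hR h]

/-- the goal -/
def GW (ι : Type) [Fintype ι] [DecidableEq ι] (R : QuadraticForm K X) : Prop := FP3.Good ((Wr ι R).subgroupOf (E (pq ι R)))

variable (R) in
/-- the number of fixed frames -/
noncomputable def fW (a : O (pq ι R)) : ℕ := fx ((Wr ι R).subgroupOf (O (pq ι R))) a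

theorem fW_le (a : O (pq ι R)) : fW R a ≤ cQ (pq ι R) a :=
  have := finL K (ι → X)
  (N2.fx_le_cn _ a).trans (cn_eq_cQ a).le

theorem card_ord (ι : Type) [Fintype ι] [DecidableEq ι] {p : ℕ} (hp : p.Prime) (h : Fintype.card ι < 2 * p) :
    Nat.card {π : Perm ι // orderOf π = p} * p ≤ (Fintype.card ι).factorial := by
  rcases isEmpty_or_nonempty {π : Perm ι // orderOf π = p} with _ | ⟨⟨σ, rfl⟩⟩
  · simp
  have h1 := N2.fx_mul ⊤ σ
  have h2 := N2.fx_le_one (A := ⊤) (a := σ) fun _ _ => trivial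
  have h3 : orderOf σ ≤ N2.cn σ := by
    rw [← Nat.card_zpowers]
    exact Subgroup.card_le_of_le (Subgroup.zpowers_le.2 (Subgroup.mem_centralizer_singleton_iff.2 rfl))
  have h4 : Nat.card {π : Perm ι // orderOf π = orderOf σ} ≤ N2.cc ⊤ σ :=
    Nat.card_le_card_of_injective (fun π => ⟨π.1, by
      have k1 := Perm.isCycle_of_prime_order' hp h
      have k2 := Perm.isCycle_of_prime_order' (σ := π.1) (by rwa [π.2]) (by rwa [π.2])
      exact k1.isConj k2 (by rw [← k1.orderOf, ← k2.orderOf, π.2]), trivial⟩) fun _ _ e => Subtype.ext (Subtype.mk.inj e)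
  rw [Subgroup.card_top, Nat.card_perm, Nat.card_eq_fintype_card] at h1
  calc _ ≤ N2.cc ⊤ σ * N2.cn σ := Nat.mul_le_mul h4 h3
    _ ≤ 1 * _ := by rw [mul_comm, ← h1]; exact Nat.mul_le_mul_right _ h2
    _ = _ := one_mul _

/-- the permutations induced by the conjugates of `a` are `p`-cycles -/
theorem fW_gain [Nontrivial X] (a : O (pq ι R)) {p : ℕ} (hp : p.Prime) (h : Fintype.card ι < 2 * p)
    (h1 : (orderOf a).gcd (Fintype.card ι).factorial ∣ p) (h2 : Nat.card (O R) < orderOf a) :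
    fW R a * p ≤ cQ (pq ι R) a := by
  have := finL K (ι → X)
  have := finL K X
  have h3 := N2.fx_mul ((Wr ι R).subgroupOf (O (pq ι R))) a
  have h4 : ∀ g : {g // IsConj a g ∧ g ∈ (Wr ι R).subgroupOf (O (pq ι R))},
      ∃ y : {π : Perm ι // orderOf π = p} × (ι → O R), g.1.1 = mon y.1.1 fun i => y.2 i := fun ⟨g, k, π, c, hc, e⟩ => by
    have h5 : orderOf g.1 = orderOf a := by
      obtain ⟨t, rfl⟩ := isConj_iff.1 k
      exact (Subgroup.orderOf_coe _).trans ((MulAut.conj t).orderOf_eq a)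
    have h6 : ∀ n : ℕ, ∃ d, mon π c ^ n = mon (π ^ n) d := fun n => by
      induction n with
      | zero => exact ⟨1, mon_one.symm⟩
      | succ n ih => exact ih.elim fun d hd => ⟨_, by rw [pow_succ, hd, mon_mul, pow_succ]⟩
    refine ⟨⟨⟨π, ((Nat.dvd_prime hp).1 ((Nat.dvd_gcd ?_ ?_).trans h1)).resolve_left fun k => h2.not_ge ?_⟩,
      fun i => ⟨c i, hc i⟩⟩, e⟩
    · obtain ⟨d, hd⟩ := h6 (orderOf a)
      rw [← h5, ← show g.1 = mon π c from e, pow_orderOf_eq_one, ← mon_one, h5] at hd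
      exact orderOf_dvd_of_pow_eq_one (mon_inj hd).1.symm
    · exact Fintype.card_perm (α := ι) ▸ orderOf_dvd_card
    · refine Nat.le_of_dvd Nat.card_pos (h5 ▸ orderOf_dvd_of_pow_eq_one ?_)
      rw [show g.1 = bs c from e.trans (congrArg (mon · c) (orderOf_eq_one_iff.1 k)), ← map_pow, show c ^ Nat.card (O R) = 1 from funext fun i =>
        congrArg Subtype.val (pow_card_eq_one' (x := (⟨c i, hc i⟩ : O R))), map_one]
  choose y hy using h4
  have h5 : N2.cc _ a ≤ _ := Nat.card_le_card_of_injective y fun g g' e => Subtype.ext (Subtype.ext (by rw [hy, hy, e]))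
  rw [Nat.card_congr (Subgroup.subgroupOfEquivOfLe Wr_le_O).toEquiv, card_Wr, cn_eq_cQ] at h3
  rw [Nat.card_prod, Nat.card_fun, Nat.card_eq_fintype_card (α := ι)] at h5
  refine Nat.le_of_mul_le_mul_right ?_ (Nat.mul_pos (Fintype.card ι).factorial_pos
    (pow_pos (Nat.card_pos (α := O R)) (Fintype.card ι)))
  rw [mul_right_comm, fW, h3]
  refine (Nat.mul_le_mul_right _ (Nat.mul_le_mul_left _ h5)).trans ?_
  rw [mul_assoc, mul_right_comm]
  exact Nat.mul_le_mul_left _ (Nat.mul_le_mul_right _ (card_ord ι hp h))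

theorem finrank_pq (ι : Type) [Fintype ι] : finrank K (ι → X) = Fintype.card ι * finrank K X := by
  have : Module.Finite K X := Module.Finite.of_finite
  rw [Module.finrank_pi_fintype, Finset.sum_const, Finset.card_univ, smul_eq_mul]

/-- the inequality -/
def Nm (k z t m q : ℕ) : Prop := 4 * (k * z ^ 3 * (t.factorial * bO m q ^ t)) ≤ 5 * q ^ (t * m * (t * m - 1) / 2)

theorem Nm.le [Nontrivial X] (hR : Nondeg R) (h7 : 7 ≤ Fintype.card ι * finrank K X) {k z : ℕ}
    (h : Nm k z (Fintype.card ι) (finrank K X) (Fintype.card K)) :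
    k * z ^ 3 * Nat.card (Wr ι R) ≤ Nat.card (O (pq ι R)) := by
  have h1 := card_O_ge (nondeg_pq (ι := ι) hR) (finrank_pq (K := K) (X := X) ι ▸ h7)
  rw [finrank_pq] at h1
  rw [card_Wr]
  exact Nat.le_of_mul_le_mul_left (le_trans (Nat.mul_le_mul_left 4 (Nat.mul_le_mul_left _ (Nat.mul_le_mul_left _
    (Nat.pow_le_pow_left (card_O_bO hR) _)))) (h.trans h1)) four_pos

variable {a : (ι → X) ≃ₗ[K] (ι → X)} {z : ℕ}

/-- blocks of dimension at least two -/
theorem good_one (hR : Nondeg R) (h2 : 2 ≤ finrank K X) (h7 : 7 ≤ Fintype.card ι * finrank K X) (h1 : a ∈ Wr ι R)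
    (h3 : a ∈ E2 (pq ι R)) (hz : fW R ⟨a, Wr_le_O h1⟩ ≤ z)
    (h : Nm 1 z (Fintype.card ι) (finrank K X) (Fintype.card K)) : GW ι R := by
  have : Module.Finite K X := Module.Finite.of_finite
  have : Nontrivial X := Module.nontrivial_of_finrank_pos (R := K) (by omega)
  have := finL K (ι → X)
  have hG := good_of_finite (nondeg_pq (ι := ι) hR) (by rw [finrank_pq]; omega)
  obtain ⟨i⟩ : Nonempty ι := Fintype.card_pos_iff.1 (Nat.pos_of_ne_zero fun k => by rw [k] at h7; omega)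
  have h4 := N2.fx_over (Subgroup.inclusion E_le_O) ((Wr ι R).subgroupOf (O (pq ι R))) (fun g => by
    obtain ⟨s, hs, w, hw, e⟩ := H955.exists_refl_mul hG (P := LinearMap.range (LinearMap.single K (fun _ => X) i))
      (fun c => (H954.TSing.exists_val hR h2 c).elim fun x hx => ⟨_, ⟨x, rfl⟩, (pq_single i x).trans hx⟩)
      (inv_mem g.2)
    refine ⟨⟨w, hw⟩⁻¹, ?_⟩
    change w⁻¹⁻¹ * g.1 ∈ Wr ι R
    rw [inv_inv, ← inv_inv g.1, e, mul_inv_rev, mul_inv_cancel_left]
    refine inv_mem ((Subgroup.closure_le _).2 ?_ hs)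
    rintro _ ⟨_, hv, ⟨x, rfl⟩, rfl⟩
    exact refl_mem_Wr i x hv) ⟨a, E2_le_E hG h3⟩
  refine ⟨⟨a, E2_le_E hG h3⟩, h1, (Nat.pow_le_pow_left (h4.1.le.trans hz) 3).trans (le_trans ?_ h4.2.ge)⟩
  refine Nat.le_of_mul_le_mul_right ?_ (Nat.card_pos (α := (Wr ι R).subgroupOf (O (pq ι R))))
  rw [Subgroup.index_mul_card, Nat.card_congr (Subgroup.subgroupOfEquivOfLe Wr_le_O).toEquiv, ← one_mul (z ^ 3)]
  exact h.le hR h7

/-- odd characteristic -/
theorem good_two (hR : Nondeg R) (h2 : (2 : K) ≠ 0) (h7 : 7 ≤ Fintype.card ι * finrank K X) (h1 : a ∈ Wr ι R)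
    (h3 : a ∈ E2 (pq ι R)) (hz : fW R ⟨a, Wr_le_O h1⟩ ≤ z)
    (h : Nm 2 z (Fintype.card ι) (finrank K X) (Fintype.card K)) : GW ι R := by
  have : Module.Finite K X := Module.Finite.of_finite
  have : Nontrivial X := Module.nontrivial_of_finrank_pos (R := K) (Nat.pos_of_ne_zero fun k => by rw [k] at h7; omega)
  have := finL K (ι → X)
  have h5 : 5 ≤ finrank K (ι → X) := by rw [finrank_pq]; omega
  have hG := good_of_finite (nondeg_pq (ι := ι) hR) h5
  obtain ⟨i⟩ : Nonempty ι := Fintype.card_pos_iff.1 (Nat.pos_of_ne_zero fun k => by rw [k] at h7; omega)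
  obtain ⟨x, hx⟩ : ∃ x, R x ≠ 0 := by
    by_contra k
    push Not at k
    obtain ⟨x, hx⟩ := exists_ne (0 : X)
    exact hx (hR x fun y => by rw [polar, k, k, k, sub_zero, sub_zero])
  have h4 : 2 * Nat.card ((Wr ι R).subgroupOf (E (pq ι R))) ≤ Nat.card (Wr ι R) := by
    rw [← ((E (pq ι R)).subgroupOf (Wr ι R)).index_mul_card, ← Subgroup.inf_subgroupOf_right,
      ← Subgroup.inf_subgroupOf_left (E _), Nat.card_congr (Subgroup.subgroupOfEquivOfLe inf_le_right).toEquiv,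
      Nat.card_congr (Subgroup.subgroupOfEquivOfLe inf_le_left).toEquiv]
    refine Nat.mul_le_mul_right _ (Subgroup.one_lt_index_of_ne_top fun k => h2 ?_)
    have h6 : pq ι R (Pi.single i x) ≠ 0 := by rwa [pq_single]
    have h8 := H955.det_of_mem_E hG (Subgroup.subgroupOf_eq_top.1 k (refl_mem_Wr i x h6)).2
    rw [H160.QSpin.det_refl] at h8
    have h9 : (-1 : K) = 1 := congrArg Units.val h8
    linear_combination -h9
  have h6 := h.le hR h7
  have h8 := H450.Ux.card_O_le (nondeg_pq (ι := ι) hR) h5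
  refine N2.good_of_le (a := ⟨a, E2_le_E hG h3⟩) h1
    ((fx_le_over (Subgroup.inclusion E_le_O) ((Wr ι R).subgroupOf (O (pq ι R))) _).trans hz) ?_
  nlinarith [Nat.mul_le_mul_left (z ^ 3) h4]

/-! ### cyclic elements -/

/-- the blocks are permuted cyclically -/
def cyc (r : ℕ) (u : X ≃ₗ[K] X) : (Fin (r + 1) → X) ≃ₗ[K] (Fin (r + 1) → X) := mon (finRotate (r + 1)) (Pi.mulSingle 0 u)

variable {r : ℕ} {u : X ≃ₗ[K] X}

theorem cyc_mem (hu : u ∈ O R) : cyc r u ∈ Wr _ R := ⟨_, _, single_mem hu 0, rfl⟩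

theorem cyc_single (i : Fin (r + 1)) (x : X) : (cyc r u ^ (i : ℕ)) (Pi.single 0 x) = Pi.single i x := by
  induction i using Fin.induction with
  | zero => rfl
  | succ i ih =>
    rw [Fin.val_succ, pow_succ', LinearEquiv.mul_apply, ← Fin.val_castSucc, ih, cyc, mon_single, finRotate_apply,
      Fin.coeSucc_eq_succ, Pi.mulSingle_eq_of_ne (Fin.succ_ne_zero i)]
    rfl

theorem cyc_pow (r : ℕ) (u : X ≃ₗ[K] X) : cyc r u ^ (r + 1) = bs fun _ => u := pi_ext fun i x => by
  have h1 : (cyc r u ^ (r + 1)) (Pi.single 0 x) = Pi.single 0 (u x) := by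
    rw [pow_succ', LinearEquiv.mul_apply, show (cyc r u ^ r) _ = _ from cyc_single (Fin.last r) x, cyc, mon_single,
      finRotate_last, Pi.mulSingle_eq_same]
  rw [← cyc_single (u := u), ← LinearEquiv.mul_apply, ← pow_add, add_comm _ (i : ℕ), pow_add, LinearEquiv.mul_apply, h1,
    cyc_single, cyc_single]
  exact (mon_single 1 (fun _ => u) i x).symm

theorem cyc_pow_mul {N : ℕ} (h : u ^ N = 1) : cyc r u ^ ((r + 1) * N) = 1 := by
  rw [pow_mul, cyc_pow, ← map_pow, show (fun _ : Fin (r + 1) => u) ^ N = 1 from funext fun _ => h, map_one]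

theorem cyc_cycV (hu : CycV (u : End K X)) : CycV (cyc r u : End K (Fin (r + 1) → X)) := by
  obtain ⟨v, hv⟩ := cycV_iff.1 hu
  have h1 : ∀ (n : ℕ), ∀ y ∈ orb (cyc r u : End K (Fin (r + 1) → X)) (Pi.single 0 v),
      (cyc r u ^ n) y ∈ orb (cyc r u : End K (Fin (r + 1) → X)) (Pi.single 0 v) := fun n y hy => by
    induction n with
    | zero => exact hy
    | succ n ih => exact pow_succ' (cyc r u) n ▸ map_mem_orb ih
  have h2 := hv.ge.trans (orb_le_of (U := (orb (cyc r u : End K (Fin (r + 1) → X)) (Pi.single 0 v)).comap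
    (LinearMap.single K (fun _ => X) 0)) (fun x hx => by
      have h3 := h1 (r + 1) (Pi.single 0 x) hx
      rwa [cyc_pow, show bs (fun _ => u) _ = _ from mon_single 1 (fun _ => u) 0 x] at h3) (self_mem_orb _ _))
  refine cycV_iff.2 ⟨Pi.single 0 v, eq_top_iff.2 fun w _ => ?_⟩
  rw [← Finset.univ_sum_single w]
  exact Submodule.sum_mem _ fun i _ => cyc_single (u := u) i (w i) ▸ h1 i _ (h2 trivial)

theorem fix_pow {g : V ≃ₗ[K] V} {v : V} (h : g v = v) (n : ℕ) : (g ^ n) v = v := by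
  induction n with
  | zero => rfl
  | succ n ih => rw [pow_succ, LinearEquiv.mul_apply, h, ih]

theorem cyc_fr (hu : ∀ x, u (u x) = x → x = 0) (v : Fin (r + 1) → X) (h : cyc r u (cyc r u v) = v) : v = 0 := by
  have h1 := fix_pow (g := cyc r u * cyc r u) h (r + 1)
  rw [(Commute.refl _).mul_pow, cyc_pow] at h1
  exact funext fun i => hu _ (congrFun h1 i)

theorem cyc_E2 (hr : Even r) (hu : u ∈ E2 R) : cyc r u ∈ E2 (pq _ R) := by
  rw [cyc, mon_eq, bs_single (R := R)]
  refine mul_mem (Emb.up_E2 _ hu) (odd_E2 (Wr_le_O (pm_mem _)) hr.add_one ?_)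
  have h1 := cyc_pow_mul (r := r) (one_pow 1 : (1 : X ≃ₗ[K] X) ^ 1 = 1)
  rwa [mul_one, cyc, Pi.mulSingle_one] at h1

/-! ### sums -/

variable (K X) in
/-- the splitting -/
abbrev se (ι κ : Type) : ((ι → X) × (κ → X)) ≃ₗ[K] (ι ⊕ κ → X) := (LinearEquiv.sumArrowLequivProdArrow ι κ K X).symm

theorem se_q (v : (ι → X) × (κ → X)) : pq (ι ⊕ κ) R (se K X ι κ v) = osum (pq ι R) (pq κ R) v := by
  rw [osum_apply, pi_apply, pi_apply, pi_apply, Fintype.sum_sum_type]
  rfl

variable (R) in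
/-- the sum -/
def sm (a : (ι → X) ≃ₗ[K] (ι → X)) (b : (κ → X) ≃ₗ[K] (κ → X)) : (ι ⊕ κ → X) ≃ₗ[K] (ι ⊕ κ → X) :=
  (Emb.eqv (se K X ι κ) (se_q (R := R))).up (a.prodCongr b)

variable {b : (κ → X) ≃ₗ[K] (κ → X)}

theorem sm_se (v : (ι → X) × (κ → X)) : sm R a b (se K X ι κ v) = se K X ι κ (a v.1, b v.2) := Emb.eqv_up _ _ _ v

theorem sm_mon (π : Perm ι) (σ : Perm κ) (c : ι → X ≃ₗ[K] X) (d : κ → X ≃ₗ[K] X) :
    sm R (mon π c) (mon σ d) = mon (π.sumCongr σ) (Sum.elim c d) := LinearEquiv.ext fun v => by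
  obtain ⟨v, rfl⟩ := (se K X ι κ).surjective v
  rw [sm_se]
  funext i
  cases i <;> rfl

theorem sm_mem (ha : a ∈ Wr ι R) (hb : b ∈ Wr κ R) : sm R a b ∈ Wr _ R := by
  obtain ⟨π, c, hc, rfl⟩ := ha
  obtain ⟨σ, d, hd, rfl⟩ := hb
  exact ⟨_, _, Sum.rec hc hd, sm_mon _ _ _ _⟩

theorem sm_E2 (ha : a ∈ E2 (pq ι R)) (hb : b ∈ E2 (pq κ R)) : sm R a b ∈ E2 (pq _ R) := Emb.up_E2 _ (prod_E2 ha hb)

theorem sm_pow (n : ℕ) : sm R a b ^ n = sm R (a ^ n) (b ^ n) := by
  rw [sm, ← map_pow]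
  congr 1
  induction n with
  | zero => rfl
  | succ n ih => rw [pow_succ, ih, pow_succ, pow_succ]; rfl

theorem sm_one : sm R (1 : (ι → X) ≃ₗ[K] (ι → X)) (1 : (κ → X) ≃ₗ[K] (κ → X)) = 1 := map_one _

theorem sm_eq_one (h : sm R a b = 1) : a = 1 := LinearEquiv.ext fun v =>
  congrArg Prod.fst ((se K X ι κ).injective ((sm_se (v, 0)).symm.trans (LinearEquiv.congr_fun h _)))

theorem cQ_sm : cQ (pq _ R) (sm R a b) ≤ cQ (osum (pq ι R) (pq κ R)) (a.prodCongr b) :=
  cQ_congr (se K X ι κ).symm (fun v => by rw [← se_q, LinearEquiv.apply_symm_apply]) fun v => by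
    obtain ⟨v, rfl⟩ := (se K X ι κ).surjective v
    rw [sm_se, LinearEquiv.symm_apply_apply, LinearEquiv.symm_apply_apply]
    rfl

end Cfsg.Agent.N2C.FrO
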